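import Cfsg.Agent.Lib.helper9.CosetSimple
import Cfsg.Prelude.Def_Spor_Fi23

set_option autoImplicit false

namespace Cfsg.Agent.Lib.helper9.CE0423c
open Cfsg.Agent.Lib.helper9.CE

def fwd_a_g0 : List (List Nat) := [[nat_lit 0x0]]

def fwd_aL : List (List (List Nat)) := [fwd_a_g0]
noncomputable def fwd_a (i : Nat) : Nat := look3 fwd_aL (nat_lit 1) (nat_lit 256) (nat_lit 16) (nat_lit 16) (nat_lit 1) i

def fwd_b_g0 : List (List Nat) := [[nat_lit 0x0]]

def fwd_bL : List (List (List Nat)) := [fwd_b_g0]
noncomputable def fwd_b (i : Nat) : Nat := look3 fwd_bL (nat_lit 1) (nat_lit 256) (nat_lit 16) (nat_lit 16) (nat_lit 1) i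

def fwd_c_g0 : List (List Nat) := [[nat_lit 0x0]]

def fwd_cL : List (List (List Nat)) := [fwd_c_g0]
noncomputable def fwd_c (i : Nat) : Nat := look3 fwd_cL (nat_lit 1) (nat_lit 256) (nat_lit 16) (nat_lit 16) (nat_lit 1) i

def fwd_d_g0 : List (List Nat) := [[nat_lit 0x0]]

def fwd_dL : List (List (List Nat)) := [fwd_d_g0]
noncomputable def fwd_d (i : Nat) : Nat := look3 fwd_dL (nat_lit 1) (nat_lit 256) (nat_lit 16) (nat_lit 16) (nat_lit 1) i

def fwd_e_g0 : List (List Nat) := [[nat_lit 0x0]]

def fwd_eL : List (List (List Nat)) := [fwd_e_g0]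
noncomputable def fwd_e (i : Nat) : Nat := look3 fwd_eL (nat_lit 1) (nat_lit 256) (nat_lit 16) (nat_lit 16) (nat_lit 1) i

def fwd_f_g0 : List (List Nat) := [[nat_lit 0x0]]

def fwd_fL : List (List (List Nat)) := [fwd_f_g0]
noncomputable def fwd_f (i : Nat) : Nat := look3 fwd_fL (nat_lit 1) (nat_lit 256) (nat_lit 16) (nat_lit 16) (nat_lit 1) i

def fwd_g_g0 : List (List Nat) := [[nat_lit 0x0]]

def fwd_gL : List (List (List Nat)) := [fwd_g_g0]
noncomputable def fwd_g (i : Nat) : Nat := look3 fwd_gL (nat_lit 1) (nat_lit 256) (nat_lit 16) (nat_lit 16) (nat_lit 1) i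

def fwd_j_g0 : List (List Nat) := [[nat_lit 0x0]]

def fwd_jL : List (List (List Nat)) := [fwd_j_g0]
noncomputable def fwd_j (i : Nat) : Nat := look3 fwd_jL (nat_lit 1) (nat_lit 256) (nat_lit 16) (nat_lit 16) (nat_lit 1) i

def fwd_h_g0 : List (List Nat) := [[nat_lit 0x0]]

def fwd_hL : List (List (List Nat)) := [fwd_h_g0]
noncomputable def fwd_h (i : Nat) : Nat := look3 fwd_hL (nat_lit 1) (nat_lit 256) (nat_lit 16) (nat_lit 16) (nat_lit 1) i

def fwd_i_g0 : List (List Nat) := [[nat_lit 0x0]]

def fwd_iL : List (List (List Nat)) := [fwd_i_g0]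
noncomputable def fwd_i (i : Nat) : Nat := look3 fwd_iL (nat_lit 1) (nat_lit 256) (nat_lit 16) (nat_lit 16) (nat_lit 1) i

def np1_g0 : List (List Nat) := [[nat_lit 0x24b0072c014b0012c04c50111403c500d1402c500514004501310044400f10034400b1002440051000c40011004c30110c03c300d0c02c30090c01c30030c004301308044200f08034200b0802420070801420010804c10110403c100d0402c10090401c10050400c101300044000f00034000b000240007000140003000040000000]]

def np1L : List (List (List Nat)) := [np1_g0]
noncomputable def np1 (i : Nat) : Nat := look3 np1L (nat_lit 18) (nat_lit 256) (nat_lit 16) (nat_lit 16) (nat_lit 262143) i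

def rn1_g0 : List (List Nat) := [[nat_lit 0x0]]

def rn1L : List (List (List Nat)) := [rn1_g0]
noncomputable def rn1 (i : Nat) : Nat := look3 rn1L (nat_lit 6) (nat_lit 256) (nat_lit 16) (nat_lit 16) (nat_lit 63) i

def fin_a_g0 : List (List Nat) := [[nat_lit 0x56]]

def fin_aL : List (List (List Nat)) := [fin_a_g0]
noncomputable def fin_a (i : Nat) : Nat := look3 fin_aL (nat_lit 8) (nat_lit 256) (nat_lit 16) (nat_lit 16) (nat_lit 255) i

def fin_b_g0 : List (List Nat) := [[nat_lit 0x6a]]

def fin_bL : List (List (List Nat)) := [fin_b_g0]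
noncomputable def fin_b (i : Nat) : Nat := look3 fin_bL (nat_lit 8) (nat_lit 256) (nat_lit 16) (nat_lit 16) (nat_lit 255) i

def fin_c_g0 : List (List Nat) := [[nat_lit 0x7b]]

def fin_cL : List (List (List Nat)) := [fin_c_g0]
noncomputable def fin_c (i : Nat) : Nat := look3 fin_cL (nat_lit 8) (nat_lit 256) (nat_lit 16) (nat_lit 16) (nat_lit 255) i

def fin_d_g0 : List (List Nat) := [[nat_lit 0x76]]

def fin_dL : List (List (List Nat)) := [fin_d_g0]
noncomputable def fin_d (i : Nat) : Nat := look3 fin_dL (nat_lit 8) (nat_lit 256) (nat_lit 16) (nat_lit 16) (nat_lit 255) i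

def fin_e_g0 : List (List Nat) := [[nat_lit 0x80]]

def fin_eL : List (List (List Nat)) := [fin_e_g0]
noncomputable def fin_e (i : Nat) : Nat := look3 fin_eL (nat_lit 8) (nat_lit 256) (nat_lit 16) (nat_lit 16) (nat_lit 255) i

def fin_f_g0 : List (List Nat) := [[nat_lit 0xd]]

def fin_fL : List (List (List Nat)) := [fin_f_g0]
noncomputable def fin_f (i : Nat) : Nat := look3 fin_fL (nat_lit 8) (nat_lit 256) (nat_lit 16) (nat_lit 16) (nat_lit 255) i

def fin_g_g0 : List (List Nat) := [[nat_lit 0x11]]

def fin_gL : List (List (List Nat)) := [fin_g_g0]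
noncomputable def fin_g (i : Nat) : Nat := look3 fin_gL (nat_lit 8) (nat_lit 256) (nat_lit 16) (nat_lit 16) (nat_lit 255) i

def fin_j_g0 : List (List Nat) := [[nat_lit 0x15]]

def fin_jL : List (List (List Nat)) := [fin_j_g0]
noncomputable def fin_j (i : Nat) : Nat := look3 fin_jL (nat_lit 8) (nat_lit 256) (nat_lit 16) (nat_lit 16) (nat_lit 255) i

def fin_h_g0 : List (List Nat) := [[nat_lit 0x19]]

def fin_hL : List (List (List Nat)) := [fin_h_g0]
noncomputable def fin_h (i : Nat) : Nat := look3 fin_hL (nat_lit 8) (nat_lit 256) (nat_lit 16) (nat_lit 16) (nat_lit 255) i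

def fin_i_g0 : List (List Nat) := [[nat_lit 0x1d]]

def fin_iL : List (List (List Nat)) := [fin_i_g0]
noncomputable def fin_i (i : Nat) : Nat := look3 fin_iL (nat_lit 8) (nat_lit 256) (nat_lit 16) (nat_lit 16) (nat_lit 255) i

def key1_g0 : List (List Nat) := [[nat_lit 0x400050a00851542e0114510002a9149480402920748c0006180a00318000c00c60003a005081884004008a0280534840014100408520a10c51542ae014550b78a79c78601c301d1400411424c0104008200d1146883340180680001408020431060a8c0c6618034d0165a8bd80104a0941abb8f7540b700e1619dc8f9389c9642f91f058cbe05b9622f706c580bd8580a217005e2805bc22d21a452522104a4540821280ce20449c1308012618ab8d7148b8440971ac10c2584a8420950281002508702404e19a08c1344602204c09608412d2000a00a4940240290000a009412020024e000a00839001c020c000a00730e01801ca000a00628c0140188280400518800c0104180200308400400800800001]]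

def key1L : List (List (List Nat)) := [key1_g0]
noncomputable def key1 (i : Nat) : Nat := look3 key1L (nat_lit 17) (nat_lit 256) (nat_lit 16) (nat_lit 16) (nat_lit 131071) i

def cert1_g0 : List (List Nat) := [[nat_lit 0x3097ff74a621cccf5f7990a81ed3387ada60ae9b4810036082006bb7774d766cdfaedd5d35d83b7eba0300d520601a9019bf51b8366a45f6cd440401a440803459ab668a2e07c52601774c0da6e902005c10400b765acb6ecb996dd1e04d4b3b63a9462153a5442e389083c2926037b21608eacc575d500003990000726b4b2e514165c9018038103006f644aadec0555bd010036902006c642a4d882c15948b04ad11f085167e9ca282c192993a62521a0543206008445824dc80001b11f082d206005857c00a48200140390028206004e0e0009c8100130370026200004a0d80094810012030002420000460bc008c80801115f021f208003c0a4007881000e828001d202003809c007080000d826001b206003457c005c82000b0170016206002a058005481000a01500142000026050004c82000900e00122060022034004481000800c0010202001e02c003d8d8e07a5e000e212001a02800358b8c06a5d000c2100016024002d898a05a5c000a20e00120200025878804a5b000820c000e01c001d858603a5a000620a000a018001482000200500042060006010000c8100010030002202000200800048000000010000]]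

def cert1L : List (List (List Nat)) := [cert1_g0]
noncomputable def cert1 (i : Nat) : Nat := look3 cert1L (nat_lit 27) (nat_lit 256) (nat_lit 16) (nat_lit 16) (nat_lit 134217727) i

def st1_g0 : List (List Nat) := [[nat_lit 0x76097c66087656766a7609647e7c667e7c603c7c663d61603c7c646664087978727371046e6d5f34066a5609386b3908566a36336232066a07336232370968672f0856034d2d2f383633623237393a2e2c020733623206032d2f320656032d2f3d603c2e2c02560733603c08075e06093d603c08560938365e37393d345e06560735305c5b06585705545304012350222151201f4f1e2350221f4f1e21222546444f454724233e43492a294a40262b4842414b284a401e00032b48421e000329484245472400092e2c2b46441e254442403e3c3a38360609363432302e2c02092c2a28262422201e1a1a161612120e0e0a0a0806040200]]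

def st1L : List (List (List Nat)) := [st1_g0]
noncomputable def st1 (i : Nat) : Nat := look3 st1L (nat_lit 8) (nat_lit 256) (nat_lit 16) (nat_lit 16) (nat_lit 255) i


end Cfsg.Agent.Lib.helper9.CE0423c
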