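import Cfsg.Agent.Lib.helper9.CosetSimple
import Cfsg.Prelude.Def_Spor_Fi23

set_option autoImplicit false

namespace Cfsg.Agent.Lib.helper9.CE0458c
open Cfsg.Agent.Lib.helper9.CE

def fwd_a_g0 : List (List Nat) := [[nat_lit 0x0]]

def fwd_aL : List (List (List Nat)) := [fwd_a_g0]
noncomputable def fwd_a (i : Nat) : Nat := look3 fwd_aL (nat_lit 1) (nat_lit 256) (nat_lit 16) (nat_lit 16) (nat_lit 1) i

def fwd_b_g0 : List (List Nat) := [[nat_lit 0x0]]

def fwd_bL : List (List (List Nat)) := [fwd_b_g0]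
noncomputable def fwd_b (i : Nat) : Nat := look3 fwd_bL (nat_lit 1) (nat_lit 256) (nat_lit 16) (nat_lit 16) (nat_lit 1) i

def fwd_c_g0 : List (List Nat) := [[nat_lit 0x0]]

def fwd_cL : List (List (List Nat)) := [fwd_c_g0]
noncomputable def fwd_c (i : Nat) : Nat := look3 fwd_cL (nat_lit 1) (nat_lit 256) (nat_lit 16) (nat_lit 16) (nat_lit 1) i

def fwd_d_g0 : List (List Nat) := [[nat_lit 0x0]]

def fwd_dL : List (List (List Nat)) := [fwd_d_g0]
noncomputable def fwd_d (i : Nat) : Nat := look3 fwd_dL (nat_lit 1) (nat_lit 256) (nat_lit 16) (nat_lit 16) (nat_lit 1) i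

def fwd_e_g0 : List (List Nat) := [[nat_lit 0x0]]

def fwd_eL : List (List (List Nat)) := [fwd_e_g0]
noncomputable def fwd_e (i : Nat) : Nat := look3 fwd_eL (nat_lit 1) (nat_lit 256) (nat_lit 16) (nat_lit 16) (nat_lit 1) i

def fwd_f_g0 : List (List Nat) := [[nat_lit 0x0]]

def fwd_fL : List (List (List Nat)) := [fwd_f_g0]
noncomputable def fwd_f (i : Nat) : Nat := look3 fwd_fL (nat_lit 1) (nat_lit 256) (nat_lit 16) (nat_lit 16) (nat_lit 1) i

def fwd_g_g0 : List (List Nat) := [[nat_lit 0x0]]

def fwd_gL : List (List (List Nat)) := [fwd_g_g0]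
noncomputable def fwd_g (i : Nat) : Nat := look3 fwd_gL (nat_lit 1) (nat_lit 256) (nat_lit 16) (nat_lit 16) (nat_lit 1) i

def fwd_j_g0 : List (List Nat) := [[nat_lit 0x0]]

def fwd_jL : List (List (List Nat)) := [fwd_j_g0]
noncomputable def fwd_j (i : Nat) : Nat := look3 fwd_jL (nat_lit 1) (nat_lit 256) (nat_lit 16) (nat_lit 16) (nat_lit 1) i

def fwd_h_g0 : List (List Nat) := [[nat_lit 0x0]]

def fwd_hL : List (List (List Nat)) := [fwd_h_g0]
noncomputable def fwd_h (i : Nat) : Nat := look3 fwd_hL (nat_lit 1) (nat_lit 256) (nat_lit 16) (nat_lit 16) (nat_lit 1) i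

def fwd_i_g0 : List (List Nat) := [[nat_lit 0x0]]

def fwd_iL : List (List (List Nat)) := [fwd_i_g0]
noncomputable def fwd_i (i : Nat) : Nat := look3 fwd_iL (nat_lit 1) (nat_lit 256) (nat_lit 16) (nat_lit 16) (nat_lit 1) i

def np1_g0 : List (List Nat) := [[nat_lit 0x2c409101c405100c413004400f003400b00240070014003000400000]]

def np1L : List (List (List Nat)) := [np1_g0]
noncomputable def np1 (i : Nat) : Nat := look3 np1L (nat_lit 14) (nat_lit 256) (nat_lit 16) (nat_lit 16) (nat_lit 16383) i

def rn1_g0 : List (List Nat) := [[nat_lit 0x0]]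

def rn1L : List (List (List Nat)) := [rn1_g0]
noncomputable def rn1 (i : Nat) : Nat := look3 rn1L (nat_lit 4) (nat_lit 256) (nat_lit 16) (nat_lit 16) (nat_lit 15) i

def fin_a_g0 : List (List Nat) := [[nat_lit 0x63]]

def fin_aL : List (List (List Nat)) := [fin_a_g0]
noncomputable def fin_a (i : Nat) : Nat := look3 fin_aL (nat_lit 8) (nat_lit 256) (nat_lit 16) (nat_lit 16) (nat_lit 255) i

def fin_b_g0 : List (List Nat) := [[nat_lit 0x5c]]

def fin_bL : List (List (List Nat)) := [fin_b_g0]
noncomputable def fin_b (i : Nat) : Nat := look3 fin_bL (nat_lit 8) (nat_lit 256) (nat_lit 16) (nat_lit 16) (nat_lit 255) i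

def fin_c_g0 : List (List Nat) := [[nat_lit 0x15]]

def fin_cL : List (List (List Nat)) := [fin_c_g0]
noncomputable def fin_c (i : Nat) : Nat := look3 fin_cL (nat_lit 8) (nat_lit 256) (nat_lit 16) (nat_lit 16) (nat_lit 255) i

def fin_d_g0 : List (List Nat) := [[nat_lit 0x5e]]

def fin_dL : List (List (List Nat)) := [fin_d_g0]
noncomputable def fin_d (i : Nat) : Nat := look3 fin_dL (nat_lit 8) (nat_lit 256) (nat_lit 16) (nat_lit 16) (nat_lit 255) i

def fin_e_g0 : List (List Nat) := [[nat_lit 0x59]]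

def fin_eL : List (List (List Nat)) := [fin_e_g0]
noncomputable def fin_e (i : Nat) : Nat := look3 fin_eL (nat_lit 8) (nat_lit 256) (nat_lit 16) (nat_lit 16) (nat_lit 255) i

def fin_f_g0 : List (List Nat) := [[nat_lit 0x5a]]

def fin_fL : List (List (List Nat)) := [fin_f_g0]
noncomputable def fin_f (i : Nat) : Nat := look3 fin_fL (nat_lit 8) (nat_lit 256) (nat_lit 16) (nat_lit 16) (nat_lit 255) i

def fin_g_g0 : List (List Nat) := [[nat_lit 0x60]]

def fin_gL : List (List (List Nat)) := [fin_g_g0]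
noncomputable def fin_g (i : Nat) : Nat := look3 fin_gL (nat_lit 8) (nat_lit 256) (nat_lit 16) (nat_lit 16) (nat_lit 255) i

def fin_j_g0 : List (List Nat) := [[nat_lit 0x1d]]

def fin_jL : List (List (List Nat)) := [fin_j_g0]
noncomputable def fin_j (i : Nat) : Nat := look3 fin_jL (nat_lit 8) (nat_lit 256) (nat_lit 16) (nat_lit 16) (nat_lit 255) i

def fin_h_g0 : List (List Nat) := [[nat_lit 0x21]]

def fin_hL : List (List (List Nat)) := [fin_h_g0]
noncomputable def fin_h (i : Nat) : Nat := look3 fin_hL (nat_lit 8) (nat_lit 256) (nat_lit 16) (nat_lit 16) (nat_lit 255) i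

def fin_i_g0 : List (List Nat) := [[nat_lit 0x25]]

def fin_iL : List (List (List Nat)) := [fin_i_g0]
noncomputable def fin_i (i : Nat) : Nat := look3 fin_iL (nat_lit 8) (nat_lit 256) (nat_lit 16) (nat_lit 16) (nat_lit 255) i

def key1_g0 : List (List Nat) := [[nat_lit 0x2804c226005038c014081001889400800a0208004002a0a1d1888c44762111528014402a5112d89044962ab10dd86ec3d60b557585547761ee2f09478422ac126713b05dc05e072abbc1ea2fe177933c9f85f128f97389c241e1e88c7458221c0d8846d200a0a4d02429000a094482024e00a083c01c20ce06072a81414400a3021a914c4aaa5613289588c656028314d48a04051a00c104602030900408020001]]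

def key1L : List (List (List Nat)) := [key1_g0]
noncomputable def key1 (i : Nat) : Nat := look3 key1L (nat_lit 13) (nat_lit 256) (nat_lit 16) (nat_lit 16) (nat_lit 8191) i

def cert1_g0 : List (List Nat) := [[nat_lit 0x602c5569303274a302c8b195f9148c0b08c1d76110601be303587c656a8f8c5d3df184a7be201007a20200f2d553de62127bca03007720600ecd4521da20a43b327487640000e840001cda22439b4b487367e86e6d2521cd96a1b9a01007120200e0d150dc22021b8337437046200ca4840d748d83ab112094d20a0098cb8f131949e26204004a2080092cc4d9259a1b24900004866a6c9090800f0a08198902003033a045c41000b4ce8015905002a01e005467404a082001380e0027206004c034009881001280c0025202004802c009191921229c0023212004402800898f901129b0021210004002400818d8e1029a001f20e003c020007883000e807001d20a0038c285071828a0e204001a2080032c34406587880ca42000d20400186740828ce8004105000700c000e674041482000200500042060006010000c8100010030002202000200800048000000010000]]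

def cert1L : List (List (List Nat)) := [cert1_g0]
noncomputable def cert1 (i : Nat) : Nat := look3 cert1L (nat_lit 27) (nat_lit 256) (nat_lit 16) (nat_lit 16) (nat_lit 134217727) i

def st1_g0 : List (List Nat) := [[nat_lit 0x5b3d4c3d4c00595c60013d61005c504c5b504a3d005a5c595a01185c5a5e5c5915014c504a4c00065c595c155c595c0257562a5352014e4d2747462600094237392c0015012d3739402c3d2d4038262d4039402c273808012d392c0009373e2d3b3a372f2931332e282d342f293133332c303228001509160911332c30312f292f282d2c2a282622221e1e1a1a18160913120b050d0e0a04090f0b050d0e0e080c0b050b04090806040200]]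

def st1L : List (List (List Nat)) := [st1_g0]
noncomputable def st1 (i : Nat) : Nat := look3 st1L (nat_lit 8) (nat_lit 256) (nat_lit 16) (nat_lit 16) (nat_lit 255) i


end Cfsg.Agent.Lib.helper9.CE0458c
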