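import Cfsg.Agent.Lib.helper9.CE0458tD

set_option autoImplicit false

namespace Cfsg.Agent.Lib.helper9.CE0458t
open Cfsg.Agent.Lib.helper9 Cfsg.Agent.Lib.helper9.CE
open Cfsg.Spor.Fi23 (Gen)

theorem hfact_1 : allRange 20000 40000 (D.factK WT) = true := by decide +kernel
theorem hfact_2 : allRange 40000 60000 (D.factK WT) = true := by decide +kernel
theorem hfact_3 : allRange 60000 80000 (D.factK WT) = true := by decide +kernel
theorem hfact_0 : allRange 0 20000 (D.factK WT) = true := by decide +kernel
theorem hfact_4 : allRange 80000 100000 (D.factK WT) = true := by decide +kernel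
theorem hfact_5 : allRange 100000 120000 (D.factK WT) = true := by decide +kernel
theorem hrel_0 : D.relsK RL 0 218 = true := by decide +kernel
theorem hrel_1 : D.relsK RL 218 436 = true := by decide +kernel
theorem hrel_2 : D.relsK RL 436 654 = true := by decide +kernel
theorem hrel_3 : D.relsK RL 654 872 = true := by decide +kernel
theorem hrel_4 : D.relsK RL 872 1090 = true := by decide +kernel
theorem hrel_5 : D.relsK RL 1090 1308 = true := by decide +kernel
theorem hrel_6 : D.relsK RL 1308 1526 = true := by decide +kernel
theorem hrel_7 : D.relsK RL 1526 1744 = true := by decide +kernel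
theorem hrel_8 : D.relsK RL 1744 1962 = true := by decide +kernel
theorem hrel_9 : D.relsK RL 1962 2180 = true := by decide +kernel
theorem hrel_10 : D.relsK RL 2180 2398 = true := by decide +kernel
theorem hrel_11 : D.relsK RL 2398 2616 = true := by decide +kernel
theorem hrel_12 : D.relsK RL 2616 2834 = true := by decide +kernel
theorem hrel_13 : D.relsK RL 2834 3052 = true := by decide +kernel
theorem hrel_14 : D.relsK RL 3052 3270 = true := by decide +kernel
theorem hrel_15 : D.relsK RL 3270 3488 = true := by decide +kernel
theorem hrel_16 : D.relsK RL 3488 3706 = true := by decide +kernel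
theorem hrel_17 : D.relsK RL 3706 3924 = true := by decide +kernel
theorem hrel_18 : D.relsK RL 3924 4142 = true := by decide +kernel
theorem hrel_19 : D.relsK RL 4142 4360 = true := by decide +kernel
theorem hrel_20 : D.relsK RL 4360 4578 = true := by decide +kernel
theorem hrel_21 : D.relsK RL 4578 4796 = true := by decide +kernel
theorem hrel_22 : D.relsK RL 4796 5014 = true := by decide +kernel
theorem hrel_23 : D.relsK RL 5014 5232 = true := by decide +kernel
theorem hrel_24 : D.relsK RL 5232 5450 = true := by decide +kernel
theorem hrel_25 : D.relsK RL 5450 5668 = true := by decide +kernel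
theorem hrel_26 : D.relsK RL 5668 5886 = true := by decide +kernel
theorem hrel_27 : D.relsK RL 5886 6104 = true := by decide +kernel
theorem hrel_28 : D.relsK RL 6104 6156 = true := by decide +kernel
theorem htree_0 : allRange 1 25548 D.treeK = true := by decide +kernel
theorem hperm_a : allRange 0 6156 (D.permK Gen.a) = true := by decide +kernel
theorem hperm_b : allRange 0 6156 (D.permK Gen.b) = true := by decide +kernel
theorem hperm_c : allRange 0 6156 (D.permK Gen.c) = true := by decide +kernel
theorem hperm_d : allRange 0 6156 (D.permK Gen.d) = true := by decide +kernel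
theorem hperm_e : allRange 0 6156 (D.permK Gen.e) = true := by decide +kernel
theorem hperm_f : allRange 0 6156 (D.permK Gen.f) = true := by decide +kernel
theorem hperm_g : allRange 0 6156 (D.permK Gen.g) = true := by decide +kernel
theorem hperm_j : allRange 0 6156 (D.permK Gen.j) = true := by decide +kernel
theorem hperm_h : allRange 0 6156 (D.permK Gen.h) = true := by decide +kernel
theorem hperm_i : allRange 0 6156 (D.permK Gen.i) = true := by decide +kernel
theorem hfin_a : allRange 0 6156 (D.finK Gen.a) = true := by decide +kernel
theorem hfin_b : allRange 0 6156 (D.finK Gen.b) = true := by decide +kernel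
theorem hfin_c : allRange 0 6156 (D.finK Gen.c) = true := by decide +kernel
theorem hfin_d : allRange 0 6156 (D.finK Gen.d) = true := by decide +kernel
theorem hfin_e : allRange 0 6156 (D.finK Gen.e) = true := by decide +kernel
theorem hfin_f : allRange 0 6156 (D.finK Gen.f) = true := by decide +kernel
theorem hfin_g : allRange 0 6156 (D.finK Gen.g) = true := by decide +kernel
theorem hfin_j : allRange 0 6156 (D.finK Gen.j) = true := by decide +kernel
theorem hfin_h : allRange 0 6156 (D.finK Gen.h) = true := by decide +kernel
theorem hfin_i : allRange 0 6156 (D.finK Gen.i) = true := by decide +kernel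
theorem hfact_6 : allRange 120000 120596 (D.factK WT) = true := by decide +kernel
theorem hrnK : allRange 0 6156 D.rnK = true := by decide +kernel
theorem hsubK : D.subK (genW TL) = true := by decide +kernel
theorem hpi0 : D.pi 0 = 0 := by decide +kernel
theorem hrn0 : D.rn 0 = 0 := by decide +kernel

end Cfsg.Agent.Lib.helper9.CE0458t
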