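import Cfsg.Agent.Lib.helper9.CosetSimple
import Cfsg.Prelude.Def_Spor_Fi23

set_option autoImplicit false

namespace Cfsg.Agent.Lib.helper9.CE0459Ac
open Cfsg.Agent.Lib.helper9.CE

def fwd_a_g0 : List (List Nat) := [[nat_lit 0x0]]

def fwd_aL : List (List (List Nat)) := [fwd_a_g0]
noncomputable def fwd_a (i : Nat) : Nat := look3 fwd_aL (nat_lit 1) (nat_lit 256) (nat_lit 16) (nat_lit 16) (nat_lit 1) i

def fwd_b_g0 : List (List Nat) := [[nat_lit 0x0]]

def fwd_bL : List (List (List Nat)) := [fwd_b_g0]
noncomputable def fwd_b (i : Nat) : Nat := look3 fwd_bL (nat_lit 1) (nat_lit 256) (nat_lit 16) (nat_lit 16) (nat_lit 1) i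

def fwd_c_g0 : List (List Nat) := [[nat_lit 0x0]]

def fwd_cL : List (List (List Nat)) := [fwd_c_g0]
noncomputable def fwd_c (i : Nat) : Nat := look3 fwd_cL (nat_lit 1) (nat_lit 256) (nat_lit 16) (nat_lit 16) (nat_lit 1) i

def fwd_d_g0 : List (List Nat) := [[nat_lit 0x0]]

def fwd_dL : List (List (List Nat)) := [fwd_d_g0]
noncomputable def fwd_d (i : Nat) : Nat := look3 fwd_dL (nat_lit 1) (nat_lit 256) (nat_lit 16) (nat_lit 16) (nat_lit 1) i

def fwd_e_g0 : List (List Nat) := [[nat_lit 0x0]]

def fwd_eL : List (List (List Nat)) := [fwd_e_g0]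
noncomputable def fwd_e (i : Nat) : Nat := look3 fwd_eL (nat_lit 1) (nat_lit 256) (nat_lit 16) (nat_lit 16) (nat_lit 1) i

def fwd_f_g0 : List (List Nat) := [[nat_lit 0x0]]

def fwd_fL : List (List (List Nat)) := [fwd_f_g0]
noncomputable def fwd_f (i : Nat) : Nat := look3 fwd_fL (nat_lit 1) (nat_lit 256) (nat_lit 16) (nat_lit 16) (nat_lit 1) i

def fwd_g_g0 : List (List Nat) := [[nat_lit 0x0]]

def fwd_gL : List (List (List Nat)) := [fwd_g_g0]
noncomputable def fwd_g (i : Nat) : Nat := look3 fwd_gL (nat_lit 1) (nat_lit 256) (nat_lit 16) (nat_lit 16) (nat_lit 1) i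

def fwd_j_g0 : List (List Nat) := [[nat_lit 0x0]]

def fwd_jL : List (List (List Nat)) := [fwd_j_g0]
noncomputable def fwd_j (i : Nat) : Nat := look3 fwd_jL (nat_lit 1) (nat_lit 256) (nat_lit 16) (nat_lit 16) (nat_lit 1) i

def fwd_h_g0 : List (List Nat) := [[nat_lit 0x0]]

def fwd_hL : List (List (List Nat)) := [fwd_h_g0]
noncomputable def fwd_h (i : Nat) : Nat := look3 fwd_hL (nat_lit 1) (nat_lit 256) (nat_lit 16) (nat_lit 16) (nat_lit 1) i

def fwd_i_g0 : List (List Nat) := [[nat_lit 0x0]]

def fwd_iL : List (List (List Nat)) := [fwd_i_g0]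
noncomputable def fwd_i (i : Nat) : Nat := look3 fwd_iL (nat_lit 1) (nat_lit 256) (nat_lit 16) (nat_lit 16) (nat_lit 1) i

def np1_g0 : List (List Nat) := [[nat_lit 0x1d300153000d3004cf0044f003cf0034f002cf0024f001cf0014f0004f004ce8044e803ce8034e802ce8024e801ce8014e800ce804ca8044a803ca8034a802ca8024a801ca800ca8004a804ca0044a003ca0034a002ca0024a001ca0014a000ca004c600446003c600346002c600246001c6000c600046004c580445803c580345802c5802458014580045804c180441803c180341802c180241801c1800c180041804c100441003c100341002c100241001c10014100041004c080440803c080340802c080240801c080140800c0804c000440003c000340002c000240001c000140000c0000400000000]]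

def np1L : List (List (List Nat)) := [np1_g0]
noncomputable def np1 (i : Nat) : Nat := look3 np1L (nat_lit 20) (nat_lit 256) (nat_lit 16) (nat_lit 16) (nat_lit 1048575) i

def rn1_g0 : List (List Nat) := [[nat_lit 0x0]]

def rn1L : List (List (List Nat)) := [rn1_g0]
noncomputable def rn1 (i : Nat) : Nat := look3 rn1L (nat_lit 7) (nat_lit 256) (nat_lit 16) (nat_lit 16) (nat_lit 127) i

def fin_a_g0 : List (List Nat) := [[nat_lit 0x9b]]

def fin_aL : List (List (List Nat)) := [fin_a_g0]
noncomputable def fin_a (i : Nat) : Nat := look3 fin_aL (nat_lit 8) (nat_lit 256) (nat_lit 16) (nat_lit 16) (nat_lit 255) i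

def fin_b_g0 : List (List Nat) := [[nat_lit 0x9c]]

def fin_bL : List (List (List Nat)) := [fin_b_g0]
noncomputable def fin_b (i : Nat) : Nat := look3 fin_bL (nat_lit 8) (nat_lit 256) (nat_lit 16) (nat_lit 16) (nat_lit 255) i

def fin_c_g0 : List (List Nat) := [[nat_lit 0x9d]]

def fin_cL : List (List (List Nat)) := [fin_c_g0]
noncomputable def fin_c (i : Nat) : Nat := look3 fin_cL (nat_lit 8) (nat_lit 256) (nat_lit 16) (nat_lit 16) (nat_lit 255) i

def fin_d_g0 : List (List Nat) := [[nat_lit 0x9]]

def fin_dL : List (List (List Nat)) := [fin_d_g0]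
noncomputable def fin_d (i : Nat) : Nat := look3 fin_dL (nat_lit 8) (nat_lit 256) (nat_lit 16) (nat_lit 16) (nat_lit 255) i

def fin_e_g0 : List (List Nat) := [[nat_lit 0xd]]

def fin_eL : List (List (List Nat)) := [fin_e_g0]
noncomputable def fin_e (i : Nat) : Nat := look3 fin_eL (nat_lit 8) (nat_lit 256) (nat_lit 16) (nat_lit 16) (nat_lit 255) i

def fin_f_g0 : List (List Nat) := [[nat_lit 0x11]]

def fin_fL : List (List (List Nat)) := [fin_f_g0]
noncomputable def fin_f (i : Nat) : Nat := look3 fin_fL (nat_lit 8) (nat_lit 256) (nat_lit 16) (nat_lit 16) (nat_lit 255) i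

def fin_g_g0 : List (List Nat) := [[nat_lit 0x15]]

def fin_gL : List (List (List Nat)) := [fin_g_g0]
noncomputable def fin_g (i : Nat) : Nat := look3 fin_gL (nat_lit 8) (nat_lit 256) (nat_lit 16) (nat_lit 16) (nat_lit 255) i

def fin_j_g0 : List (List Nat) := [[nat_lit 0x19]]

def fin_jL : List (List (List Nat)) := [fin_j_g0]
noncomputable def fin_j (i : Nat) : Nat := look3 fin_jL (nat_lit 8) (nat_lit 256) (nat_lit 16) (nat_lit 16) (nat_lit 255) i

def fin_h_g0 : List (List Nat) := [[nat_lit 0x1d]]

def fin_hL : List (List (List Nat)) := [fin_h_g0]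
noncomputable def fin_h (i : Nat) : Nat := look3 fin_hL (nat_lit 8) (nat_lit 256) (nat_lit 16) (nat_lit 16) (nat_lit 255) i

def fin_i_g0 : List (List Nat) := [[nat_lit 0x21]]

def fin_iL : List (List (List Nat)) := [fin_i_g0]
noncomputable def fin_i (i : Nat) : Nat := look3 fin_iL (nat_lit 8) (nat_lit 256) (nat_lit 16) (nat_lit 16) (nat_lit 255) i

def key1_g0 : List (List Nat) := [[nat_lit 0x40000400000000a0200200084080101002000442c0a8101002000000802c12858008b041042c20c5a858c00b040042d40c10010c00c04216084085a861400c040043140938810b10b04a2a2c054180195503801180c20c6281af083181180c03138138c51e1823c04404f2972712e16216b952408648b08b920062c02c1a859d00b060062d498188f491493caa72474a90d326526ba3ba9869ae8cf1e51ea83a87867aa0a99e11ea60a47807a908eae12e3aa5d286ba50ce9d51d963967467658a51d11d9419274276482015015803183143180d80c18c6015e3023178170c00c5c24e2c42d38130b00b4c3060d40cf8cf831833e13c0c20cf00e830033a3162c608128116196043045845410811501404004506040a808d18d023023443008808c08b021022d20002800a48a00900290000280094090080024e000280083880070020c00028007307006001ca0002800628600500188000280052050040014600028004184003001040c0080030820010008004000001]]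

def key1L : List (List (List Nat)) := [key1_g0]
noncomputable def key1 (i : Nat) : Nat := look3 key1L (nat_lit 19) (nat_lit 256) (nat_lit 16) (nat_lit 16) (nat_lit 524287) i

def cert1_g0 : List (List Nat) := [[nat_lit 0x1cbcd73b989ae760335ce8384b50808069b0394d320401a4e56434992c66920000d0200019ee46433dc3c667a0100cd2020198e3627323cc66620000ca2000192daa272506005b90000b6657096c40802d59f40daa0000b32000164dd206c901005810200af65afd5e80002b48000563487bac41601344040265a13c4ca010097202012ccd9ce5880004ab40709540401264080249b1b6c92020090204011ed51a23d008046901008c692d118400022d9a3445a0000892000110cf196211800b990200726b0c4e48a8457491062535e5f4a470009240c01202e802435a5b48470008e40c01182a002310200450a6008a40001102900221020043698a4868e0010889001bb4e4f37470006c40c00d425801a9020034094006840400cc24801990000320800064d1114c91c00189030030060006040400bc178017900002e05c005c40800b4138016900002c04c0058ce0e4b11c0015903002a03e005440400a40f0014900002803a0050454146597980ca380018206002e058005c81000b0150016200002a050005593940aa3800142060026034004c81000900c0012202002202c00458f9008a370010212001e028003d8d8e07a36000e210001a02400358b8c06a35000c20e0016020002d898a05a34000a20c001201c0025878804a33000820a000e018001d858603a320006208000a0140015838402a3800042060006010000c8100010030002202000200800048000000010000]]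

def cert1L : List (List (List Nat)) := [cert1_g0]
noncomputable def cert1 (i : Nat) : Nat := look3 cert1L (nat_lit 27) (nat_lit 256) (nat_lit 16) (nat_lit 16) (nat_lit 134217727) i

def st1_g0 : List (List Nat) := [[nat_lit 0x19997999700979901960199019698009800989896009392038f8e888b8a872400057a88866a0401258802056985877987852a83823d807f6a7d7c472c02057a743d6a7a743d222579693e757979417776742472713d6f6e236c6b69336766365c3504012900053a344a64566155350401233c6063493304033102090123322229233c603b2200053658553534533f2423323c603b32222540543336565d5d5959575553513f4624290009053a34504c4d4d4b49474343413f3d3b373735332200090129000331020129000901232e2e2c2a262624221e1e1a1a161612120e0e0a0a0606040200]]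

def st1L : List (List (List Nat)) := [st1_g0]
noncomputable def st1 (i : Nat) : Nat := look3 st1L (nat_lit 8) (nat_lit 256) (nat_lit 16) (nat_lit 16) (nat_lit 255) i


end Cfsg.Agent.Lib.helper9.CE0459Ac
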