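import Cfsg.Agent.Lib.helper9.CE0459BtD

set_option autoImplicit false

namespace Cfsg.Agent.Lib.helper9.CE0459Bt
open Cfsg.Agent.Lib.helper9 Cfsg.Agent.Lib.helper9.CE
open Cfsg.Spor.Fi23 (Gen)

theorem hfact_8 : allRange 160000 180000 (D.factK WT) = true := by decide +kernel
theorem hfact_7 : allRange 140000 160000 (D.factK WT) = true := by decide +kernel
theorem hfact_9 : allRange 180000 200000 (D.factK WT) = true := by decide +kernel
theorem hfact_6 : allRange 120000 140000 (D.factK WT) = true := by decide +kernel
theorem hfact_5 : allRange 100000 120000 (D.factK WT) = true := by decide +kernel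
theorem hfact_0 : allRange 0 20000 (D.factK WT) = true := by decide +kernel
theorem hfact_2 : allRange 40000 60000 (D.factK WT) = true := by decide +kernel
theorem hfact_1 : allRange 20000 40000 (D.factK WT) = true := by decide +kernel
theorem hfact_3 : allRange 60000 80000 (D.factK WT) = true := by decide +kernel
theorem hfact_4 : allRange 80000 100000 (D.factK WT) = true := by decide +kernel
theorem hfact_10 : allRange 200000 207884 (D.factK WT) = true := by decide +kernel
theorem hrel_0 : D.relsK RL 0 176 = true := by decide +kernel
theorem hrel_1 : D.relsK RL 176 352 = true := by decide +kernel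
theorem hrel_2 : D.relsK RL 352 528 = true := by decide +kernel
theorem hrel_3 : D.relsK RL 528 704 = true := by decide +kernel
theorem hrel_4 : D.relsK RL 704 880 = true := by decide +kernel
theorem hrel_5 : D.relsK RL 880 1056 = true := by decide +kernel
theorem hrel_6 : D.relsK RL 1056 1232 = true := by decide +kernel
theorem hrel_7 : D.relsK RL 1232 1408 = true := by decide +kernel
theorem hrel_8 : D.relsK RL 1408 1584 = true := by decide +kernel
theorem hrel_9 : D.relsK RL 1584 1760 = true := by decide +kernel
theorem hrel_10 : D.relsK RL 1760 1936 = true := by decide +kernel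
theorem hrel_11 : D.relsK RL 1936 2112 = true := by decide +kernel
theorem hrel_12 : D.relsK RL 2112 2288 = true := by decide +kernel
theorem hrel_13 : D.relsK RL 2288 2464 = true := by decide +kernel
theorem hrel_14 : D.relsK RL 2464 2640 = true := by decide +kernel
theorem hrel_15 : D.relsK RL 2640 2816 = true := by decide +kernel
theorem hrel_16 : D.relsK RL 2816 2992 = true := by decide +kernel
theorem hrel_17 : D.relsK RL 2992 3168 = true := by decide +kernel
theorem hrel_18 : D.relsK RL 3168 3344 = true := by decide +kernel
theorem hrel_19 : D.relsK RL 3344 3520 = true := by decide +kernel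
theorem hrel_20 : D.relsK RL 3520 3696 = true := by decide +kernel
theorem hrel_21 : D.relsK RL 3696 3872 = true := by decide +kernel
theorem hrel_22 : D.relsK RL 3872 4048 = true := by decide +kernel
theorem htree_0 : allRange 1 40001 D.treeK = true := by decide +kernel
theorem htree_1 : allRange 40001 80001 D.treeK = true := by decide +kernel
theorem htree_2 : allRange 80001 116760 D.treeK = true := by decide +kernel
theorem hrel_23 : D.relsK RL 4048 4060 = true := by decide +kernel
theorem hperm_a : allRange 0 4060 (D.permK Gen.a) = true := by decide +kernel
theorem hperm_b : allRange 0 4060 (D.permK Gen.b) = true := by decide +kernel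
theorem hperm_c : allRange 0 4060 (D.permK Gen.c) = true := by decide +kernel
theorem hperm_d : allRange 0 4060 (D.permK Gen.d) = true := by decide +kernel
theorem hperm_e : allRange 0 4060 (D.permK Gen.e) = true := by decide +kernel
theorem hperm_f : allRange 0 4060 (D.permK Gen.f) = true := by decide +kernel
theorem hperm_g : allRange 0 4060 (D.permK Gen.g) = true := by decide +kernel
theorem hperm_j : allRange 0 4060 (D.permK Gen.j) = true := by decide +kernel
theorem hperm_h : allRange 0 4060 (D.permK Gen.h) = true := by decide +kernel
theorem hperm_i : allRange 0 4060 (D.permK Gen.i) = true := by decide +kernel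
theorem hfin_a : allRange 0 4060 (D.finK Gen.a) = true := by decide +kernel
theorem hfin_b : allRange 0 4060 (D.finK Gen.b) = true := by decide +kernel
theorem hfin_c : allRange 0 4060 (D.finK Gen.c) = true := by decide +kernel
theorem hfin_d : allRange 0 4060 (D.finK Gen.d) = true := by decide +kernel
theorem hfin_e : allRange 0 4060 (D.finK Gen.e) = true := by decide +kernel
theorem hfin_f : allRange 0 4060 (D.finK Gen.f) = true := by decide +kernel
theorem hfin_g : allRange 0 4060 (D.finK Gen.g) = true := by decide +kernel
theorem hfin_j : allRange 0 4060 (D.finK Gen.j) = true := by decide +kernel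
theorem hfin_h : allRange 0 4060 (D.finK Gen.h) = true := by decide +kernel
theorem hfin_i : allRange 0 4060 (D.finK Gen.i) = true := by decide +kernel
theorem hrnK : allRange 0 4060 D.rnK = true := by decide +kernel
theorem hsubK : D.subK SWL = true := by decide +kernel
theorem hpi0 : D.pi 0 = 0 := by decide +kernel
theorem hrn0 : D.rn 0 = 0 := by decide +kernel

end Cfsg.Agent.Lib.helper9.CE0459Bt
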