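import Cfsg.Agent.Lib.helper9.CosetSimple
import Cfsg.Prelude.Def_Spor_Fi23

set_option autoImplicit false

namespace Cfsg.Agent.Lib.helper9.CE0460ac
open Cfsg.Agent.Lib.helper9.CE

def fwd_a_g0 : List (List Nat) := [[nat_lit 0x0]]

def fwd_aL : List (List (List Nat)) := [fwd_a_g0]
noncomputable def fwd_a (i : Nat) : Nat := look3 fwd_aL (nat_lit 1) (nat_lit 256) (nat_lit 16) (nat_lit 16) (nat_lit 1) i

def fwd_b_g0 : List (List Nat) := [[nat_lit 0x0]]

def fwd_bL : List (List (List Nat)) := [fwd_b_g0]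
noncomputable def fwd_b (i : Nat) : Nat := look3 fwd_bL (nat_lit 1) (nat_lit 256) (nat_lit 16) (nat_lit 16) (nat_lit 1) i

def fwd_c_g0 : List (List Nat) := [[nat_lit 0x0]]

def fwd_cL : List (List (List Nat)) := [fwd_c_g0]
noncomputable def fwd_c (i : Nat) : Nat := look3 fwd_cL (nat_lit 1) (nat_lit 256) (nat_lit 16) (nat_lit 16) (nat_lit 1) i

def fwd_d_g0 : List (List Nat) := [[nat_lit 0x0]]

def fwd_dL : List (List (List Nat)) := [fwd_d_g0]
noncomputable def fwd_d (i : Nat) : Nat := look3 fwd_dL (nat_lit 1) (nat_lit 256) (nat_lit 16) (nat_lit 16) (nat_lit 1) i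

def fwd_e_g0 : List (List Nat) := [[nat_lit 0x0]]

def fwd_eL : List (List (List Nat)) := [fwd_e_g0]
noncomputable def fwd_e (i : Nat) : Nat := look3 fwd_eL (nat_lit 1) (nat_lit 256) (nat_lit 16) (nat_lit 16) (nat_lit 1) i

def fwd_f_g0 : List (List Nat) := [[nat_lit 0x0]]

def fwd_fL : List (List (List Nat)) := [fwd_f_g0]
noncomputable def fwd_f (i : Nat) : Nat := look3 fwd_fL (nat_lit 1) (nat_lit 256) (nat_lit 16) (nat_lit 16) (nat_lit 1) i

def fwd_g_g0 : List (List Nat) := [[nat_lit 0x0]]

def fwd_gL : List (List (List Nat)) := [fwd_g_g0]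
noncomputable def fwd_g (i : Nat) : Nat := look3 fwd_gL (nat_lit 1) (nat_lit 256) (nat_lit 16) (nat_lit 16) (nat_lit 1) i

def fwd_j_g0 : List (List Nat) := [[nat_lit 0x0]]

def fwd_jL : List (List (List Nat)) := [fwd_j_g0]
noncomputable def fwd_j (i : Nat) : Nat := look3 fwd_jL (nat_lit 1) (nat_lit 256) (nat_lit 16) (nat_lit 16) (nat_lit 1) i

def fwd_h_g0 : List (List Nat) := [[nat_lit 0x0]]

def fwd_hL : List (List (List Nat)) := [fwd_h_g0]
noncomputable def fwd_h (i : Nat) : Nat := look3 fwd_hL (nat_lit 1) (nat_lit 256) (nat_lit 16) (nat_lit 16) (nat_lit 1) i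

def fwd_i_g0 : List (List Nat) := [[nat_lit 0x0]]

def fwd_iL : List (List (List Nat)) := [fwd_i_g0]
noncomputable def fwd_i (i : Nat) : Nat := look3 fwd_iL (nat_lit 1) (nat_lit 256) (nat_lit 16) (nat_lit 16) (nat_lit 1) i

def np1_g0 : List (List Nat) := [[nat_lit 0x4c13004400f003400b00240070014003000400000]]

def np1L : List (List (List Nat)) := [np1_g0]
noncomputable def np1 (i : Nat) : Nat := look3 np1L (nat_lit 14) (nat_lit 256) (nat_lit 16) (nat_lit 16) (nat_lit 16383) i

def rn1_g0 : List (List Nat) := [[nat_lit 0x0]]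

def rn1L : List (List (List Nat)) := [rn1_g0]
noncomputable def rn1 (i : Nat) : Nat := look3 rn1L (nat_lit 4) (nat_lit 256) (nat_lit 16) (nat_lit 16) (nat_lit 15) i

def fin_a_g0 : List (List Nat) := [[nat_lit 0x15]]

def fin_aL : List (List (List Nat)) := [fin_a_g0]
noncomputable def fin_a (i : Nat) : Nat := look3 fin_aL (nat_lit 7) (nat_lit 256) (nat_lit 16) (nat_lit 16) (nat_lit 127) i

def fin_b_g0 : List (List Nat) := [[nat_lit 0x16]]

def fin_bL : List (List (List Nat)) := [fin_b_g0]
noncomputable def fin_b (i : Nat) : Nat := look3 fin_bL (nat_lit 7) (nat_lit 256) (nat_lit 16) (nat_lit 16) (nat_lit 127) i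

def fin_c_g0 : List (List Nat) := [[nat_lit 0x39]]

def fin_cL : List (List (List Nat)) := [fin_c_g0]
noncomputable def fin_c (i : Nat) : Nat := look3 fin_cL (nat_lit 7) (nat_lit 256) (nat_lit 16) (nat_lit 16) (nat_lit 127) i

def fin_d_g0 : List (List Nat) := [[nat_lit 0x13]]

def fin_dL : List (List (List Nat)) := [fin_d_g0]
noncomputable def fin_d (i : Nat) : Nat := look3 fin_dL (nat_lit 7) (nat_lit 256) (nat_lit 16) (nat_lit 16) (nat_lit 127) i

def fin_e_g0 : List (List Nat) := [[nat_lit 0x1a]]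

def fin_eL : List (List (List Nat)) := [fin_e_g0]
noncomputable def fin_e (i : Nat) : Nat := look3 fin_eL (nat_lit 7) (nat_lit 256) (nat_lit 16) (nat_lit 16) (nat_lit 127) i

def fin_f_g0 : List (List Nat) := [[nat_lit 0x1e]]

def fin_fL : List (List (List Nat)) := [fin_f_g0]
noncomputable def fin_f (i : Nat) : Nat := look3 fin_fL (nat_lit 7) (nat_lit 256) (nat_lit 16) (nat_lit 16) (nat_lit 127) i

def fin_g_g0 : List (List Nat) := [[nat_lit 0x22]]

def fin_gL : List (List (List Nat)) := [fin_g_g0]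
noncomputable def fin_g (i : Nat) : Nat := look3 fin_gL (nat_lit 7) (nat_lit 256) (nat_lit 16) (nat_lit 16) (nat_lit 127) i

def fin_j_g0 : List (List Nat) := [[nat_lit 0x26]]

def fin_jL : List (List (List Nat)) := [fin_j_g0]
noncomputable def fin_j (i : Nat) : Nat := look3 fin_jL (nat_lit 7) (nat_lit 256) (nat_lit 16) (nat_lit 16) (nat_lit 127) i

def fin_h_g0 : List (List Nat) := [[nat_lit 0x2a]]

def fin_hL : List (List (List Nat)) := [fin_h_g0]
noncomputable def fin_h (i : Nat) : Nat := look3 fin_hL (nat_lit 7) (nat_lit 256) (nat_lit 16) (nat_lit 16) (nat_lit 127) i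

def fin_i_g0 : List (List Nat) := [[nat_lit 0x2e]]

def fin_iL : List (List (List Nat)) := [fin_i_g0]
noncomputable def fin_i (i : Nat) : Nat := look3 fin_iL (nat_lit 7) (nat_lit 256) (nat_lit 16) (nat_lit 16) (nat_lit 127) i

def key1_g0 : List (List Nat) := [[nat_lit 0x400a30018000d56013b0d98eec5760b301da4014149a048520014128904049c01410780384180140e670303940140c560283100140a4502028400000a0118004402023115200104028a210120504680304118080c6423120900408020001]]

def key1L : List (List (List Nat)) := [key1_g0]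
noncomputable def key1 (i : Nat) : Nat := look3 key1L (nat_lit 13) (nat_lit 256) (nat_lit 16) (nat_lit 16) (nat_lit 8191) i

def cert1_g0 : List (List Nat) := [[nat_lit 0x61dc5240005020004f6c1acf42c0c72040462a00442802392280b420003302c0336b16b349c0322240310280316a14b149803022002f02402f6912af49402e21c02d02002d6810ad49002c21802b01c02b670eab48c02a214029018029660ca9488028210027014027648a27604a2748409b62479b20401a62879a61461a40001820001762c61747410b2a01092a000720c00601000620800500c00520c0042a0082204001008001200000004000]]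

def cert1L : List (List (List Nat)) := [cert1_g0]
noncomputable def cert1 (i : Nat) : Nat := look3 cert1L (nat_lit 24) (nat_lit 256) (nat_lit 16) (nat_lit 16) (nat_lit 16777215) i

def st1_g0 : List (List Nat) := [[nat_lit 0xab76c583b35ecd8b460cd92f5e18b132a58a932c1d82f0c543b05ead5a74e8d19f3e6cd972e0090026048812000900264408e1a141091610508021410916084880220304000c100]]

def st1L : List (List (List Nat)) := [st1_g0]
noncomputable def st1 (i : Nat) : Nat := look3 st1L (nat_lit 7) (nat_lit 256) (nat_lit 16) (nat_lit 16) (nat_lit 127) i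


end Cfsg.Agent.Lib.helper9.CE0460ac
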