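import Cfsg.Agent.Lib.helper9.CosetSimple
import Cfsg.Agent.Lib.helper9.CE0460atD

set_option autoImplicit false

namespace Cfsg.Agent.Lib.helper9.CE0460ap
open Cfsg.Agent.Lib.helper9.CE

def olab1_g0 : List (List Nat) := [[nat_lit 0xbfeeabaeaaef6aabfaa59d6a5d9559554]]

def olab1L : List (List (List Nat)) := [olab1_g0]
noncomputable def olab1 (i : Nat) : Nat := look3 olab1L (nat_lit 2) (nat_lit 256) (nat_lit 16) (nat_lit 16) (nat_lit 3) i

def oot1_g0 : List (List Nat) := [[nat_lit 0x15680073e022d58214a80095400c2f0435e81350409c780462404291810a88009460469f0431680367800f4c08a380245a8026e00086c04919041cb810c5c0122c004140475d020e4c09050082920210902063c0821e0008f00189812e340161a08caf0040600264400b480070900110821a2008c10081870208380021c08f16005860000000141410e3e0448400202002254107060030300000020a080840408181020808002040000000000]]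

def oot1L : List (List (List Nat)) := [oot1_g0]
noncomputable def oot1 (i : Nat) : Nat := look3 oot1L (nat_lit 21) (nat_lit 256) (nat_lit 16) (nat_lit 16) (nat_lit 2097151) i

def oroot1_g0 : List (List Nat) := [[nat_lit 0x1e1c080]]

def oroot1L : List (List (List Nat)) := [oroot1_g0]
noncomputable def oroot1 (i : Nat) : Nat := look3 oroot1L (nat_lit 7) (nat_lit 256) (nat_lit 16) (nat_lit 16) (nat_lit 127) i

def opc_0_g0 : List (List Nat) := [[nat_lit 0x40810204081020408102040810204081020408102040810204081020408102040810204081020408102040810204081020408102040810204080]]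

def opc_0L : List (List (List Nat)) := [opc_0_g0]
noncomputable def opc_0 (i : Nat) : Nat := look3 opc_0L (nat_lit 7) (nat_lit 256) (nat_lit 16) (nat_lit 16) (nat_lit 127) i

def opc_1_g0 : List (List Nat) := [[nat_lit 0x50a142850a142850a142850a142850a142850a142850993264c993264c993264c9932444890203c70e1c3868c182c58a12203860c142030404000]]

def opc_1L : List (List (List Nat)) := [opc_1_g0]
noncomputable def opc_1 (i : Nat) : Nat := look3 opc_1L (nat_lit 7) (nat_lit 256) (nat_lit 16) (nat_lit 16) (nat_lit 127) i

def opc_2_g0 : List (List Nat) := [[nat_lit 0x78e9d3a74e9c386cd193060b962c54a132444890204080f1c3460b142850a12203860c182850a1428406081020408081020408100000000000000]]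

def opc_2L : List (List (List Nat)) := [opc_2_g0]
noncomputable def opc_2 (i : Nat) : Nat := look3 opc_2L (nat_lit 7) (nat_lit 256) (nat_lit 16) (nat_lit 16) (nat_lit 127) i

def opc_3_g0 : List (List Nat) := [[nat_lit 0x3c78e1a3058b142850a1424489102040810203870c142850a142850a1018204081020408102020408102040810000000000000000000000000000]]

def opc_3L : List (List (List Nat)) := [opc_3_g0]
noncomputable def opc_3 (i : Nat) : Nat := look3 opc_3L (nat_lit 7) (nat_lit 256) (nat_lit 16) (nat_lit 16) (nat_lit 127) i

def llab0_g0 : List (List Nat) := [[nat_lit 0x3ffffffffffffffff]]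

def llab0L : List (List (List Nat)) := [llab0_g0]
noncomputable def llab0 (i : Nat) : Nat := look3 llab0L (nat_lit 1) (nat_lit 256) (nat_lit 16) (nat_lit 16) (nat_lit 1) i

def lot0_g0 : List (List Nat) := [[nat_lit 0x41680e03102fd5827ca803d540de2906ed402749c1b94805c2404dd1816c881b54005a1f06ccf0064781313a0581d04bce015c701ad340561904acb81545c0292c01414069c9824c4c1a52409212028c902443c0a11e0100f047c6813c3401d1a0ce0c006c60234281991200c09065c4022c200951008a07024c380241c1910c00806063c2801c1418d0804604002c203140c1090600403061c1020c080850408201020c08004041810000000]]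

def lot0L : List (List (List Nat)) := [lot0_g0]
noncomputable def lot0 (i : Nat) : Nat := look3 lot0L (nat_lit 21) (nat_lit 256) (nat_lit 16) (nat_lit 16) (nat_lit 2097151) i

def lroot0_g0 : List (List Nat) := [[nat_lit 0x0]]

def lroot0L : List (List (List Nat)) := [lroot0_g0]
noncomputable def lroot0 (i : Nat) : Nat := look3 lroot0L (nat_lit 7) (nat_lit 256) (nat_lit 16) (nat_lit 16) (nat_lit 127) i

def lpc0_g0 : List (List Nat) := [[nat_lit 0x10a0c07ef9ebc76e9cb86ed9ab466c98b05eb96ac56a94a84e992a446890a03e78e9c3668c982e58a9426488901e3868c16284880e182840608080]]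

def lpc0L : List (List (List Nat)) := [lpc0_g0]
noncomputable def lpc0 (i : Nat) : Nat := look3 lpc0L (nat_lit 7) (nat_lit 256) (nat_lit 16) (nat_lit 16) (nat_lit 127) i

def llab1_g0 : List (List Nat) := [[nat_lit 0x217b7d1f8f21c2080]]

def llab1L : List (List (List Nat)) := [llab1_g0]
noncomputable def llab1 (i : Nat) : Nat := look3 llab1L (nat_lit 1) (nat_lit 256) (nat_lit 16) (nat_lit 16) (nat_lit 1) i

def lot1_g0 : List (List Nat) := [[nat_lit 0x156800000000000000000000000c2f0000001350409c780462404291800000009460469f0000000367800f4c08a380245a8026e000000049190000000000000000004140475d020e4c090500829202109000000000000000000189812e340161a08caf0000000000000b48000000000000000000000081870208380021c00000000000000000000010e3e00000000000000000000000000000000000000000000000000000000000000000000]]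

def lot1L : List (List (List Nat)) := [lot1_g0]
noncomputable def lot1 (i : Nat) : Nat := look3 lot1L (nat_lit 21) (nat_lit 256) (nat_lit 16) (nat_lit 16) (nat_lit 2097151) i

def lroot1_g0 : List (List Nat) := [[nat_lit 0x380]]

def lroot1L : List (List (List Nat)) := [lroot1_g0]
noncomputable def lroot1 (i : Nat) : Nat := look3 lroot1L (nat_lit 7) (nat_lit 256) (nat_lit 16) (nat_lit 16) (nat_lit 127) i

def lpc1_g0 : List (List Nat) := [[nat_lit 0x78e9d3a74e9c386cd193060b962c54a132444890204080f1c3460b142850a12203860c182850a1428406081020408081020408100000000000000]]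

def lpc1L : List (List (List Nat)) := [lpc1_g0]
noncomputable def lpc1 (i : Nat) : Nat := look3 lpc1L (nat_lit 7) (nat_lit 256) (nat_lit 16) (nat_lit 16) (nat_lit 127) i

def llab2_g0 : List (List Nat) := [[nat_lit 0x31002]]

def llab2L : List (List (List Nat)) := [llab2_g0]
noncomputable def llab2 (i : Nat) : Nat := look3 llab2L (nat_lit 1) (nat_lit 256) (nat_lit 16) (nat_lit 16) (nat_lit 1) i

def lot2_g0 : List (List Nat) := [[nat_lit 0x82020418c000000000000000000081000000000000000000000000000000000000000000000000000000000000000]]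

def lot2L : List (List (List Nat)) := [lot2_g0]
noncomputable def lot2 (i : Nat) : Nat := look3 lot2L (nat_lit 21) (nat_lit 256) (nat_lit 16) (nat_lit 16) (nat_lit 2097151) i

def lroot2_g0 : List (List Nat) := [[nat_lit 0x80]]

def lroot2L : List (List (List Nat)) := [lroot2_g0]
noncomputable def lroot2 (i : Nat) : Nat := look3 lroot2L (nat_lit 7) (nat_lit 256) (nat_lit 16) (nat_lit 16) (nat_lit 127) i

def lpc2_g0 : List (List Nat) := [[nat_lit 0x102040810204081020408102040810204081020408102040810204081020408102040810204081020408101820408101020408102040810204000]]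

def lpc2L : List (List (List Nat)) := [lpc2_g0]
noncomputable def lpc2 (i : Nat) : Nat := look3 lpc2L (nat_lit 7) (nat_lit 256) (nat_lit 16) (nat_lit 16) (nat_lit 127) i


end Cfsg.Agent.Lib.helper9.CE0460ap
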