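import Cfsg.Agent.Lib.helper9.CosetSimple
import Cfsg.Agent.Lib.helper9.CE0460atD
import Cfsg.Agent.Lib.helper9.CE0460apT0

set_option autoImplicit false

namespace Cfsg.Agent.Lib.helper9.CE0460ap
open Cfsg.Agent.Lib.helper9 Cfsg.Agent.Lib.helper9.CE
open Cfsg.Spor.Fi23 (Gen)

noncomputable def opc1 (c k : Nat) : Nat := getD' [opc_0, opc_1, opc_2, opc_3] (fun _ => nat_lit 0) c k
noncomputable def O : OData where
  lab1 := olab1
  ot1 := oot1
  root1 := oroot1
  pc1 := opc1
  ow := nat_lit 7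
  omw := nat_lit 127

noncomputable def lpcf0 (c k : Nat) : Nat := getD' [(fun _ => nat_lit 0), lpc0] (fun _ => nat_lit 0) c k
noncomputable def OL0 : OData where
  lab1 := llab0
  ot1 := lot0
  root1 := lroot0
  pc1 := lpcf0
  ow := nat_lit 7
  omw := nat_lit 127

set_option maxRecDepth 100000 in
def LW0 : List (Word Gen) := [
  [(Gen.a, true)],
  [(Gen.b, true)],
  [(Gen.c, true)],
  [(Gen.d, true)]]
noncomputable def lpcf1 (c k : Nat) : Nat := getD' [(fun _ => nat_lit 0), lpc1] (fun _ => nat_lit 0) c k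
noncomputable def OL1 : OData where
  lab1 := llab1
  ot1 := lot1
  root1 := lroot1
  pc1 := lpcf1
  ow := nat_lit 7
  omw := nat_lit 127

set_option maxRecDepth 100000 in
def LW1 : List (Word Gen) := [
  [(Gen.a, true)],
  [(Gen.b, true)],
  [(Gen.c, true)],
  [(Gen.d, true), (Gen.b, true), (Gen.a, true), (Gen.c, true), (Gen.d, true), (Gen.a, true), (Gen.c, true), (Gen.d, true)],
  [(Gen.d, true), (Gen.a, true), (Gen.b, true), (Gen.a, true), (Gen.c, true), (Gen.b, true), (Gen.a, true), (Gen.d, true)],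
  [(Gen.d, true), (Gen.b, true), (Gen.d, true), (Gen.c, true), (Gen.a, true), (Gen.d, true), (Gen.c, true), (Gen.a, true), (Gen.d, true)],
  [(Gen.d, true), (Gen.a, true), (Gen.c, true), (Gen.d, true), (Gen.a, true), (Gen.c, true), (Gen.d, true), (Gen.b, true), (Gen.d, true)],
  [(Gen.d, true), (Gen.c, true), (Gen.d, true), (Gen.a, true), (Gen.d, true), (Gen.c, true), (Gen.d, true), (Gen.a, true), (Gen.d, true)],
  [(Gen.d, true), (Gen.a, true), (Gen.d, true), (Gen.c, true), (Gen.d, true), (Gen.a, true), (Gen.d, true), (Gen.c, true), (Gen.d, true)],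
  [(Gen.d, true), (Gen.c, true), (Gen.d, true), (Gen.b, true), (Gen.a, true), (Gen.d, true), (Gen.c, true), (Gen.d, true), (Gen.c, true), (Gen.d, true)],
  [(Gen.d, true), (Gen.c, true), (Gen.b, true), (Gen.d, true), (Gen.b, true), (Gen.c, true), (Gen.b, true), (Gen.d, true), (Gen.b, true), (Gen.c, true), (Gen.d, true)],
  [(Gen.d, true), (Gen.a, true), (Gen.d, true), (Gen.b, true), (Gen.d, true), (Gen.b, true), (Gen.a, true), (Gen.b, true), (Gen.d, true), (Gen.c, true), (Gen.d, true)],
  [(Gen.d, true), (Gen.c, true), (Gen.b, true), (Gen.d, true), (Gen.c, true), (Gen.d, true), (Gen.b, true), (Gen.c, true), (Gen.d, true), (Gen.a, true), (Gen.b, true), (Gen.d, true)],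
  [(Gen.d, true), (Gen.b, true), (Gen.d, true), (Gen.c, true), (Gen.d, true), (Gen.a, true), (Gen.b, true), (Gen.c, true), (Gen.d, true), (Gen.b, true), (Gen.a, true), (Gen.d, true)],
  [(Gen.d, true), (Gen.a, true), (Gen.d, true), (Gen.a, true), (Gen.b, true), (Gen.a, true), (Gen.d, true), (Gen.a, true), (Gen.d, true), (Gen.b, true), (Gen.a, true), (Gen.d, true)],
  [(Gen.d, true), (Gen.c, true), (Gen.b, true), (Gen.d, true), (Gen.c, true), (Gen.b, true), (Gen.d, true), (Gen.a, true), (Gen.d, true), (Gen.b, true), (Gen.a, true), (Gen.d, true)],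
  [(Gen.d, true), (Gen.b, true), (Gen.a, true), (Gen.d, true), (Gen.c, true), (Gen.b, true), (Gen.d, true), (Gen.c, true), (Gen.d, true), (Gen.b, true), (Gen.c, true), (Gen.d, true)],
  [(Gen.d, true), (Gen.c, true), (Gen.d, true), (Gen.a, true), (Gen.c, true), (Gen.d, true), (Gen.a, true), (Gen.c, true), (Gen.b, true), (Gen.d, true), (Gen.a, true), (Gen.b, true), (Gen.d, true)]]
noncomputable def lpcf2 (c k : Nat) : Nat := getD' [(fun _ => nat_lit 0), lpc2] (fun _ => nat_lit 0) c k
noncomputable def OL2 : OData where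
  lab1 := llab2
  ot1 := lot2
  root1 := lroot2
  pc1 := lpcf2
  ow := nat_lit 7
  omw := nat_lit 127

set_option maxRecDepth 100000 in
def LW2 : List (Word Gen) := [
  [(Gen.b, true), (Gen.c, true), (Gen.d, true), (Gen.a, true), (Gen.b, true), (Gen.a, true), (Gen.c, true), (Gen.b, true), (Gen.a, true), (Gen.d, true)],
  [(Gen.a, true), (Gen.b, true), (Gen.c, true), (Gen.d, true), (Gen.a, true), (Gen.c, true), (Gen.d, true), (Gen.a, true), (Gen.c, true), (Gen.d, true), (Gen.b, true), (Gen.d, true)],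
  [(Gen.a, true), (Gen.b, true), (Gen.a, true), (Gen.b, true), (Gen.c, true), (Gen.d, true), (Gen.b, true), (Gen.a, true), (Gen.c, true), (Gen.d, true), (Gen.a, true), (Gen.c, true), (Gen.d, true)]]
def Yw : Word Gen := [(Gen.b, true), (Gen.d, true), (Gen.a, true)]
set_option maxRecDepth 100000 in
def Yp : Word Gen := [(Gen.b, true), (Gen.d, true), (Gen.a, true), (Gen.b, true), (Gen.d, true), (Gen.a, true), (Gen.b, true), (Gen.d, true), (Gen.a, true), (Gen.b, true), (Gen.d, true), (Gen.a, true), (Gen.b, true), (Gen.d, true), (Gen.a, true), (Gen.b, true), (Gen.d, true), (Gen.a, true), (Gen.b, true), (Gen.d, true), (Gen.a, true), (Gen.b, true), (Gen.d, true), (Gen.a, true), (Gen.b, true), (Gen.d, true), (Gen.a, true), (Gen.b, true), (Gen.d, true), (Gen.a, true), (Gen.b, true), (Gen.d, true), (Gen.a, true)]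

end Cfsg.Agent.Lib.helper9.CE0460ap
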