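import Cfsg.Agent.Lib.helper9.CosetSimple
import Cfsg.Prelude.Def_Spor_Fi23

set_option autoImplicit false

namespace Cfsg.Agent.Lib.helper9.CE0460bc
open Cfsg.Agent.Lib.helper9.CE

def fwd_a_g0 : List (List Nat) := [[nat_lit 0x0]]

def fwd_aL : List (List (List Nat)) := [fwd_a_g0]
noncomputable def fwd_a (i : Nat) : Nat := look3 fwd_aL (nat_lit 1) (nat_lit 256) (nat_lit 16) (nat_lit 16) (nat_lit 1) i

def fwd_b_g0 : List (List Nat) := [[nat_lit 0x0]]

def fwd_bL : List (List (List Nat)) := [fwd_b_g0]
noncomputable def fwd_b (i : Nat) : Nat := look3 fwd_bL (nat_lit 1) (nat_lit 256) (nat_lit 16) (nat_lit 16) (nat_lit 1) i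

def fwd_c_g0 : List (List Nat) := [[nat_lit 0x0]]

def fwd_cL : List (List (List Nat)) := [fwd_c_g0]
noncomputable def fwd_c (i : Nat) : Nat := look3 fwd_cL (nat_lit 1) (nat_lit 256) (nat_lit 16) (nat_lit 16) (nat_lit 1) i

def fwd_d_g0 : List (List Nat) := [[nat_lit 0x0]]

def fwd_dL : List (List (List Nat)) := [fwd_d_g0]
noncomputable def fwd_d (i : Nat) : Nat := look3 fwd_dL (nat_lit 1) (nat_lit 256) (nat_lit 16) (nat_lit 16) (nat_lit 1) i

def fwd_e_g0 : List (List Nat) := [[nat_lit 0x0]]

def fwd_eL : List (List (List Nat)) := [fwd_e_g0]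
noncomputable def fwd_e (i : Nat) : Nat := look3 fwd_eL (nat_lit 1) (nat_lit 256) (nat_lit 16) (nat_lit 16) (nat_lit 1) i

def fwd_f_g0 : List (List Nat) := [[nat_lit 0x0]]

def fwd_fL : List (List (List Nat)) := [fwd_f_g0]
noncomputable def fwd_f (i : Nat) : Nat := look3 fwd_fL (nat_lit 1) (nat_lit 256) (nat_lit 16) (nat_lit 16) (nat_lit 1) i

def fwd_g_g0 : List (List Nat) := [[nat_lit 0x0]]

def fwd_gL : List (List (List Nat)) := [fwd_g_g0]
noncomputable def fwd_g (i : Nat) : Nat := look3 fwd_gL (nat_lit 1) (nat_lit 256) (nat_lit 16) (nat_lit 16) (nat_lit 1) i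

def fwd_j_g0 : List (List Nat) := [[nat_lit 0x0]]

def fwd_jL : List (List (List Nat)) := [fwd_j_g0]
noncomputable def fwd_j (i : Nat) : Nat := look3 fwd_jL (nat_lit 1) (nat_lit 256) (nat_lit 16) (nat_lit 16) (nat_lit 1) i

def fwd_h_g0 : List (List Nat) := [[nat_lit 0x0]]

def fwd_hL : List (List (List Nat)) := [fwd_h_g0]
noncomputable def fwd_h (i : Nat) : Nat := look3 fwd_hL (nat_lit 1) (nat_lit 256) (nat_lit 16) (nat_lit 16) (nat_lit 1) i

def fwd_i_g0 : List (List Nat) := [[nat_lit 0x0]]

def fwd_iL : List (List (List Nat)) := [fwd_i_g0]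
noncomputable def fwd_i (i : Nat) : Nat := look3 fwd_iL (nat_lit 1) (nat_lit 256) (nat_lit 16) (nat_lit 16) (nat_lit 1) i

def np1_g0 : List (List Nat) := [[nat_lit 0x54800cb0012c04ca0112803ca00d2802ca00928014a0012804c30110c03c300d0c02c30090c00c30010c04c20110803c200d0802c20090801420010804c10110403c100d0402c10090401410030404c00110003c000d0002c0009000140003000040000000]]

def np1L : List (List (List Nat)) := [np1_g0]
noncomputable def np1 (i : Nat) : Nat := look3 np1L (nat_lit 18) (nat_lit 256) (nat_lit 16) (nat_lit 16) (nat_lit 262143) i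

def rn1_g0 : List (List Nat) := [[nat_lit 0x0]]

def rn1L : List (List (List Nat)) := [rn1_g0]
noncomputable def rn1 (i : Nat) : Nat := look3 rn1L (nat_lit 6) (nat_lit 256) (nat_lit 16) (nat_lit 16) (nat_lit 63) i

def fin_a_g0 : List (List Nat) := [[nat_lit 0x63]]

def fin_aL : List (List (List Nat)) := [fin_a_g0]
noncomputable def fin_a (i : Nat) : Nat := look3 fin_aL (nat_lit 7) (nat_lit 256) (nat_lit 16) (nat_lit 16) (nat_lit 127) i

def fin_b_g0 : List (List Nat) := [[nat_lit 0x5c]]

def fin_bL : List (List (List Nat)) := [fin_b_g0]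
noncomputable def fin_b (i : Nat) : Nat := look3 fin_bL (nat_lit 7) (nat_lit 256) (nat_lit 16) (nat_lit 16) (nat_lit 127) i

def fin_c_g0 : List (List Nat) := [[nat_lit 0x64]]

def fin_cL : List (List (List Nat)) := [fin_c_g0]
noncomputable def fin_c (i : Nat) : Nat := look3 fin_cL (nat_lit 7) (nat_lit 256) (nat_lit 16) (nat_lit 16) (nat_lit 127) i

def fin_d_g0 : List (List Nat) := [[nat_lit 0x5d]]

def fin_dL : List (List (List Nat)) := [fin_d_g0]
noncomputable def fin_d (i : Nat) : Nat := look3 fin_dL (nat_lit 7) (nat_lit 256) (nat_lit 16) (nat_lit 16) (nat_lit 127) i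

def fin_e_g0 : List (List Nat) := [[nat_lit 0xa]]

def fin_eL : List (List (List Nat)) := [fin_e_g0]
noncomputable def fin_e (i : Nat) : Nat := look3 fin_eL (nat_lit 7) (nat_lit 256) (nat_lit 16) (nat_lit 16) (nat_lit 127) i

def fin_f_g0 : List (List Nat) := [[nat_lit 0xe]]

def fin_fL : List (List (List Nat)) := [fin_f_g0]
noncomputable def fin_f (i : Nat) : Nat := look3 fin_fL (nat_lit 7) (nat_lit 256) (nat_lit 16) (nat_lit 16) (nat_lit 127) i

def fin_g_g0 : List (List Nat) := [[nat_lit 0x12]]

def fin_gL : List (List (List Nat)) := [fin_g_g0]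
noncomputable def fin_g (i : Nat) : Nat := look3 fin_gL (nat_lit 7) (nat_lit 256) (nat_lit 16) (nat_lit 16) (nat_lit 127) i

def fin_j_g0 : List (List Nat) := [[nat_lit 0x16]]

def fin_jL : List (List (List Nat)) := [fin_j_g0]
noncomputable def fin_j (i : Nat) : Nat := look3 fin_jL (nat_lit 7) (nat_lit 256) (nat_lit 16) (nat_lit 16) (nat_lit 127) i

def fin_h_g0 : List (List Nat) := [[nat_lit 0x1a]]

def fin_hL : List (List (List Nat)) := [fin_h_g0]
noncomputable def fin_h (i : Nat) : Nat := look3 fin_hL (nat_lit 7) (nat_lit 256) (nat_lit 16) (nat_lit 16) (nat_lit 127) i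

def fin_i_g0 : List (List Nat) := [[nat_lit 0x1e]]

def fin_iL : List (List (List Nat)) := [fin_i_g0]
noncomputable def fin_i (i : Nat) : Nat := look3 fin_iL (nat_lit 7) (nat_lit 256) (nat_lit 16) (nat_lit 16) (nat_lit 127) i

def key1_g0 : List (List Nat) := [[nat_lit 0x20000000281000082004101408220460001000514088a004980a88a0c408418941000081002128a4c4504208a5240892004024a8c20c600408d405818ec0d918ac48495820401000a8b000582004b50608032d41d400cb0161a8b6875b412eb054580ba8519422a30a510d2887124088a01510c36c6d8616c3086d81a0c01b424c2104981208012422c110258c12865021281082524001401292404804a00014010820040041c001400e71c0380398001400c6180300314001400a5140280290001400841002002083004006308008400400800800001]]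

def key1L : List (List (List Nat)) := [key1_g0]
noncomputable def key1 (i : Nat) : Nat := look3 key1L (nat_lit 17) (nat_lit 256) (nat_lit 16) (nat_lit 16) (nat_lit 131071) i

def cert1_g0 : List (List Nat) := [[nat_lit 0x71317360717340007120007077edf077ac708c2df0612af060eaf040806e76696e8a2aee40406c20406b6ce7eb40006920006869a7e84080662080656d666540806320806271a4e240406020405f71e4df44045020404f2603c32080420b004220804169214140003f20003e6f9fbe4280b46ddeb44000322000316a9d3148002f2540240ac0242000230a802320802208c0222800a120c02024809b20001a08801a20c01928001820401706c01720001606801620801504c01520001404801420801302c01320c012280011204010028010670e9047c00f22400e02400e660c8e47800d22000c02000c650a8c47400b21c00a01c00a64088a47000921800801800863068846c00721400601400662048646800521000401000420800300c003280002204001008001200000004000]]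

def cert1L : List (List (List Nat)) := [cert1_g0]
noncomputable def cert1 (i : Nat) : Nat := look3 cert1L (nat_lit 24) (nat_lit 256) (nat_lit 16) (nat_lit 16) (nat_lit 16777215) i

def st1_g0 : List (List Nat) := [[nat_lit 0x70e08768fd7ac06a534f468439d3414b9521a1f0111030671a4343e022008f15282030c20202811206b16181830123e0a0523e0a0523e6cf1db970e11a060c92820cb172a6cd18b15e880044cbd6ab56a53a54684f9f366cb97264c78f162c3870a08100]]

def st1L : List (List (List Nat)) := [st1_g0]
noncomputable def st1 (i : Nat) : Nat := look3 st1L (nat_lit 7) (nat_lit 256) (nat_lit 16) (nat_lit 16) (nat_lit 127) i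


end Cfsg.Agent.Lib.helper9.CE0460bc
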