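import Cfsg.Agent.Lib.helper9.CosetSimple
import Cfsg.Prelude.Def_Spor_Fi23

set_option autoImplicit false

namespace Cfsg.Agent.Lib.helper9.CE0462Bc
open Cfsg.Agent.Lib.helper9.CE

def fwd_a_g0 : List (List Nat) := [[nat_lit 0x0]]

def fwd_aL : List (List (List Nat)) := [fwd_a_g0]
noncomputable def fwd_a (i : Nat) : Nat := look3 fwd_aL (nat_lit 1) (nat_lit 256) (nat_lit 16) (nat_lit 16) (nat_lit 1) i

def fwd_b_g0 : List (List Nat) := [[nat_lit 0x0]]

def fwd_bL : List (List (List Nat)) := [fwd_b_g0]
noncomputable def fwd_b (i : Nat) : Nat := look3 fwd_bL (nat_lit 1) (nat_lit 256) (nat_lit 16) (nat_lit 16) (nat_lit 1) i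

def fwd_c_g0 : List (List Nat) := [[nat_lit 0x0]]

def fwd_cL : List (List (List Nat)) := [fwd_c_g0]
noncomputable def fwd_c (i : Nat) : Nat := look3 fwd_cL (nat_lit 1) (nat_lit 256) (nat_lit 16) (nat_lit 16) (nat_lit 1) i

def fwd_d_g0 : List (List Nat) := [[nat_lit 0x0]]

def fwd_dL : List (List (List Nat)) := [fwd_d_g0]
noncomputable def fwd_d (i : Nat) : Nat := look3 fwd_dL (nat_lit 1) (nat_lit 256) (nat_lit 16) (nat_lit 16) (nat_lit 1) i

def fwd_e_g0 : List (List Nat) := [[nat_lit 0x0]]

def fwd_eL : List (List (List Nat)) := [fwd_e_g0]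
noncomputable def fwd_e (i : Nat) : Nat := look3 fwd_eL (nat_lit 1) (nat_lit 256) (nat_lit 16) (nat_lit 16) (nat_lit 1) i

def fwd_f_g0 : List (List Nat) := [[nat_lit 0x0]]

def fwd_fL : List (List (List Nat)) := [fwd_f_g0]
noncomputable def fwd_f (i : Nat) : Nat := look3 fwd_fL (nat_lit 1) (nat_lit 256) (nat_lit 16) (nat_lit 16) (nat_lit 1) i

def fwd_g_g0 : List (List Nat) := [[nat_lit 0x0]]

def fwd_gL : List (List (List Nat)) := [fwd_g_g0]
noncomputable def fwd_g (i : Nat) : Nat := look3 fwd_gL (nat_lit 1) (nat_lit 256) (nat_lit 16) (nat_lit 16) (nat_lit 1) i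

def fwd_j_g0 : List (List Nat) := [[nat_lit 0x0]]

def fwd_jL : List (List (List Nat)) := [fwd_j_g0]
noncomputable def fwd_j (i : Nat) : Nat := look3 fwd_jL (nat_lit 1) (nat_lit 256) (nat_lit 16) (nat_lit 16) (nat_lit 1) i

def fwd_h_g0 : List (List Nat) := [[nat_lit 0x0]]

def fwd_hL : List (List (List Nat)) := [fwd_h_g0]
noncomputable def fwd_h (i : Nat) : Nat := look3 fwd_hL (nat_lit 1) (nat_lit 256) (nat_lit 16) (nat_lit 16) (nat_lit 1) i

def fwd_i_g0 : List (List Nat) := [[nat_lit 0x0]]

def fwd_iL : List (List (List Nat)) := [fwd_i_g0]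
noncomputable def fwd_i (i : Nat) : Nat := look3 fwd_iL (nat_lit 1) (nat_lit 256) (nat_lit 16) (nat_lit 16) (nat_lit 1) i

def np1_g0 : List (List Nat) := [[nat_lit 0x4b01310044400f10034400b1002440011004c30110c03c300d0c02c30090c00c30010c04c20110803c200d0802c20090801420010804c10110403c100d0402c10090401c10050400c101300044000f00034000b000240007000140003000040000000]]

def np1L : List (List (List Nat)) := [np1_g0]
noncomputable def np1 (i : Nat) : Nat := look3 np1L (nat_lit 18) (nat_lit 256) (nat_lit 16) (nat_lit 16) (nat_lit 262143) i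

def rn1_g0 : List (List Nat) := [[nat_lit 0x0]]

def rn1L : List (List (List Nat)) := [rn1_g0]
noncomputable def rn1 (i : Nat) : Nat := look3 rn1L (nat_lit 6) (nat_lit 256) (nat_lit 16) (nat_lit 16) (nat_lit 63) i

def fin_a_g0 : List (List Nat) := [[nat_lit 0x62]]

def fin_aL : List (List (List Nat)) := [fin_a_g0]
noncomputable def fin_a (i : Nat) : Nat := look3 fin_aL (nat_lit 7) (nat_lit 256) (nat_lit 16) (nat_lit 16) (nat_lit 127) i

def fin_b_g0 : List (List Nat) := [[nat_lit 0x65]]

def fin_bL : List (List (List Nat)) := [fin_b_g0]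
noncomputable def fin_b (i : Nat) : Nat := look3 fin_bL (nat_lit 7) (nat_lit 256) (nat_lit 16) (nat_lit 16) (nat_lit 127) i

def fin_c_g0 : List (List Nat) := [[nat_lit 0x66]]

def fin_cL : List (List (List Nat)) := [fin_c_g0]
noncomputable def fin_c (i : Nat) : Nat := look3 fin_cL (nat_lit 7) (nat_lit 256) (nat_lit 16) (nat_lit 16) (nat_lit 127) i

def fin_d_g0 : List (List Nat) := [[nat_lit 0x64]]

def fin_dL : List (List (List Nat)) := [fin_d_g0]
noncomputable def fin_d (i : Nat) : Nat := look3 fin_dL (nat_lit 7) (nat_lit 256) (nat_lit 16) (nat_lit 16) (nat_lit 127) i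

def fin_e_g0 : List (List Nat) := [[nat_lit 0xb]]

def fin_eL : List (List (List Nat)) := [fin_e_g0]
noncomputable def fin_e (i : Nat) : Nat := look3 fin_eL (nat_lit 7) (nat_lit 256) (nat_lit 16) (nat_lit 16) (nat_lit 127) i

def fin_f_g0 : List (List Nat) := [[nat_lit 0xf]]

def fin_fL : List (List (List Nat)) := [fin_f_g0]
noncomputable def fin_f (i : Nat) : Nat := look3 fin_fL (nat_lit 7) (nat_lit 256) (nat_lit 16) (nat_lit 16) (nat_lit 127) i

def fin_g_g0 : List (List Nat) := [[nat_lit 0x13]]

def fin_gL : List (List (List Nat)) := [fin_g_g0]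
noncomputable def fin_g (i : Nat) : Nat := look3 fin_gL (nat_lit 7) (nat_lit 256) (nat_lit 16) (nat_lit 16) (nat_lit 127) i

def fin_j_g0 : List (List Nat) := [[nat_lit 0x17]]

def fin_jL : List (List (List Nat)) := [fin_j_g0]
noncomputable def fin_j (i : Nat) : Nat := look3 fin_jL (nat_lit 7) (nat_lit 256) (nat_lit 16) (nat_lit 16) (nat_lit 127) i

def fin_h_g0 : List (List Nat) := [[nat_lit 0x1b]]

def fin_hL : List (List (List Nat)) := [fin_h_g0]
noncomputable def fin_h (i : Nat) : Nat := look3 fin_hL (nat_lit 7) (nat_lit 256) (nat_lit 16) (nat_lit 16) (nat_lit 127) i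

def fin_i_g0 : List (List Nat) := [[nat_lit 0x1f]]

def fin_iL : List (List (List Nat)) := [fin_i_g0]
noncomputable def fin_i (i : Nat) : Nat := look3 fin_iL (nat_lit 7) (nat_lit 256) (nat_lit 16) (nat_lit 16) (nat_lit 127) i

def key1_g0 : List (List Nat) := [[nat_lit 0x80002000300018200000141000080000000009400230021840294002a0410945081004500a08a52418408c1084082104150258c1086102a3421040080082228150419610c22d402a2002104029c500e04009c50418c22c658422c1516604dac359a236b056580bac12080124088e05c100e0600dc12a1082544a0821140281002506682304d19810c2304602204c18658cb0c2582104b4800280292500900a40002802504808009380028020e400700830002801cc3806007280028018a30050062000280148280400518800c0104180200308400400800800001]]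

def key1L : List (List (List Nat)) := [key1_g0]
noncomputable def key1 (i : Nat) : Nat := look3 key1L (nat_lit 17) (nat_lit 256) (nat_lit 16) (nat_lit 16) (nat_lit 131071) i

def cert1_g0 : List (List Nat) := [[nat_lit 0x72f0fe60f0fe78eefe94b0fe606efe40007c20007b802efb6aed7b40c07920c07861ebf8404076204075726bf54000732000726d6a724342e020c05f71e7df6f27df6867df40c05d20c05c6a665c4282cd20804c6be2cc20404b6ca14b20c04a68dfca408048208047615fc74000452000446c1fc440c04220c04169ddc1695dc145c0bd20403c2384ab25c0a82000270ac02720002609002620402525c1a220002107002120802005402020801f25c09c20001b05001b20c01a03401a20c01925c11620801503001520c01425c11120401002c010674f1045800f22400e02800e664d0e45400d22000c02400c654b0c45000b21c00a02000a64490a44c00921800801c00863470844800721400601800662450644400521000401400420c00301000320800200c002204001008001200000004000]]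

def cert1L : List (List (List Nat)) := [cert1_g0]
noncomputable def cert1 (i : Nat) : Nat := look3 cert1L (nat_lit 24) (nat_lit 256) (nat_lit 16) (nat_lit 16) (nat_lit 16777215) i

def st1_g0 : List (List Nat) := [[nat_lit 0x2fe0bd4ee5b0766c2bad55a06974804ba54288007281d2a2003ada51a74d9405e20012d5ac90aa50178ddd4a911974486aa0c044f9ea452e5b3970a000562cd6aa4e910a3080d3a452a10b76cd1930081d82e58181ab54a1302029522240002a03870c18285081018304080c10100]]

def st1L : List (List (List Nat)) := [st1_g0]
noncomputable def st1 (i : Nat) : Nat := look3 st1L (nat_lit 7) (nat_lit 256) (nat_lit 16) (nat_lit 16) (nat_lit 127) i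


end Cfsg.Agent.Lib.helper9.CE0462Bc
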