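import Cfsg.Agent.Lib.helper9.ThreeTransp
import Cfsg.Agent.Lib.helper9.CE1697pD

/-!
# Word data for the class of 3-transpositions of the presented group Fi23

`Wd` is the central involution of the subgroup generated by `a, ..., i` (a conjugate of the
generator `b`); `T1`, `T2` move the base point into the two nontrivial orbits of that subgroup;
`gw x` conjugates `Wd` to the generator `x`.  All the checks are on the 31671 points.
-/

set_option autoImplicit false

namespace Cfsg.Agent.Lib.helper9.CE0472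
open Cfsg.Agent.Lib.helper9 Cfsg.Agent.Lib.helper9.CE Cfsg.Agent.Lib.helper9.TT
open Cfsg.Spor.Fi23 (Gen)

def Wd : Word Gen := [(Gen.j, true), (Gen.g, true), (Gen.f, true), (Gen.e, true), (Gen.d, true), (Gen.c, true), (Gen.b, true), (Gen.h, true), (Gen.d, true), (Gen.c, true), (Gen.e, true), (Gen.d, true), (Gen.f, true), (Gen.e, true), (Gen.g, true), (Gen.f, true), (Gen.j, true), (Gen.g, true), (Gen.h, true), (Gen.d, true), (Gen.c, true), (Gen.e, true), (Gen.d, true), (Gen.f, true), (Gen.e, true), (Gen.h, true), (Gen.d, true), (Gen.c, true), (Gen.b, true), (Gen.c, true), (Gen.d, true), (Gen.h, true), (Gen.e, true), (Gen.f, true), (Gen.d, true), (Gen.e, true), (Gen.c, true), (Gen.d, true), (Gen.h, true), (Gen.g, true), (Gen.j, true), (Gen.f, true), (Gen.g, true), (Gen.e, true), (Gen.f, true), (Gen.d, true), (Gen.e, true), (Gen.c, true), (Gen.d, true), (Gen.h, true), (Gen.b, true), (Gen.c, true), (Gen.d, true), (Gen.e, true), (Gen.f, true), (Gen.g, true), (Gen.j, true)]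

def T1 : Word Gen := [(Gen.j, true)]

def T2 : Word Gen := [(Gen.j, true), (Gen.g, true), (Gen.f, true), (Gen.e, true), (Gen.d, true), (Gen.h, true), (Gen.c, true), (Gen.d, true), (Gen.e, true), (Gen.f, true), (Gen.g, true), (Gen.j, true)]

def TW : List (Word Gen) := [T1, T2]

def gw : Gen → Word Gen
  | .a => [(Gen.b, true), (Gen.c, true), (Gen.d, true), (Gen.h, true), (Gen.e, true), (Gen.f, true), (Gen.d, true), (Gen.e, true), (Gen.c, true), (Gen.d, true), (Gen.h, true), (Gen.g, true), (Gen.j, true), (Gen.f, true), (Gen.g, true), (Gen.e, true), (Gen.f, true), (Gen.d, true), (Gen.e, true), (Gen.c, true), (Gen.d, true), (Gen.h, true), (Gen.a, true), (Gen.b, true), (Gen.c, true), (Gen.d, true), (Gen.e, true), (Gen.f, true), (Gen.g, true), (Gen.j, true)]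
  | .b => [(Gen.c, true), (Gen.d, true), (Gen.h, true), (Gen.e, true), (Gen.f, true), (Gen.d, true), (Gen.e, true), (Gen.c, true), (Gen.d, true), (Gen.h, true), (Gen.g, true), (Gen.j, true), (Gen.f, true), (Gen.g, true), (Gen.e, true), (Gen.f, true), (Gen.d, true), (Gen.e, true), (Gen.c, true), (Gen.d, true), (Gen.h, true), (Gen.b, true), (Gen.c, true), (Gen.d, true), (Gen.e, true), (Gen.f, true), (Gen.g, true), (Gen.j, true)]
  | .c => [(Gen.d, true), (Gen.h, true), (Gen.e, true), (Gen.f, true), (Gen.d, true), (Gen.e, true), (Gen.b, true), (Gen.c, true), (Gen.d, true), (Gen.h, true), (Gen.g, true), (Gen.j, true), (Gen.f, true), (Gen.g, true), (Gen.e, true), (Gen.f, true), (Gen.d, true), (Gen.e, true), (Gen.c, true), (Gen.d, true), (Gen.h, true), (Gen.b, true), (Gen.c, true), (Gen.d, true), (Gen.e, true), (Gen.f, true), (Gen.g, true), (Gen.j, true)]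
  | .d => [(Gen.h, true), (Gen.e, true), (Gen.f, true), (Gen.c, true), (Gen.d, true), (Gen.e, true), (Gen.b, true), (Gen.c, true), (Gen.d, true), (Gen.h, true), (Gen.g, true), (Gen.j, true), (Gen.f, true), (Gen.g, true), (Gen.e, true), (Gen.f, true), (Gen.d, true), (Gen.e, true), (Gen.c, true), (Gen.d, true), (Gen.h, true), (Gen.b, true), (Gen.c, true), (Gen.d, true), (Gen.e, true), (Gen.f, true), (Gen.g, true), (Gen.j, true)]
  | .e => [(Gen.d, true), (Gen.h, true), (Gen.f, true), (Gen.c, true), (Gen.d, true), (Gen.e, true), (Gen.b, true), (Gen.c, true), (Gen.d, true), (Gen.h, true), (Gen.g, true), (Gen.j, true), (Gen.f, true), (Gen.g, true), (Gen.e, true), (Gen.f, true), (Gen.d, true), (Gen.e, true), (Gen.c, true), (Gen.d, true), (Gen.h, true), (Gen.b, true), (Gen.c, true), (Gen.d, true), (Gen.e, true), (Gen.f, true), (Gen.g, true), (Gen.j, true)]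
  | .f => [(Gen.e, true), (Gen.d, true), (Gen.h, true), (Gen.c, true), (Gen.d, true), (Gen.e, true), (Gen.b, true), (Gen.c, true), (Gen.d, true), (Gen.h, true), (Gen.g, true), (Gen.j, true), (Gen.f, true), (Gen.g, true), (Gen.e, true), (Gen.f, true), (Gen.d, true), (Gen.e, true), (Gen.c, true), (Gen.d, true), (Gen.h, true), (Gen.b, true), (Gen.c, true), (Gen.d, true), (Gen.e, true), (Gen.f, true), (Gen.g, true), (Gen.j, true)]
  | .g => [(Gen.f, true), (Gen.e, true), (Gen.d, true), (Gen.h, true), (Gen.c, true), (Gen.d, true), (Gen.e, true), (Gen.b, true), (Gen.c, true), (Gen.d, true), (Gen.h, true), (Gen.j, true), (Gen.f, true), (Gen.g, true), (Gen.e, true), (Gen.f, true), (Gen.d, true), (Gen.e, true), (Gen.c, true), (Gen.d, true), (Gen.h, true), (Gen.b, true), (Gen.c, true), (Gen.d, true), (Gen.e, true), (Gen.f, true), (Gen.g, true), (Gen.j, true)]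
  | .j => [(Gen.g, true), (Gen.f, true), (Gen.e, true), (Gen.d, true), (Gen.h, true), (Gen.c, true), (Gen.d, true), (Gen.e, true), (Gen.b, true), (Gen.c, true), (Gen.d, true), (Gen.h, true), (Gen.f, true), (Gen.g, true), (Gen.e, true), (Gen.f, true), (Gen.d, true), (Gen.e, true), (Gen.c, true), (Gen.d, true), (Gen.h, true), (Gen.b, true), (Gen.c, true), (Gen.d, true), (Gen.e, true), (Gen.f, true), (Gen.g, true), (Gen.j, true)]
  | .h => [(Gen.d, true), (Gen.e, true), (Gen.f, true), (Gen.c, true), (Gen.d, true), (Gen.e, true), (Gen.b, true), (Gen.c, true), (Gen.d, true), (Gen.h, true), (Gen.g, true), (Gen.j, true), (Gen.f, true), (Gen.g, true), (Gen.e, true), (Gen.f, true), (Gen.d, true), (Gen.e, true), (Gen.c, true), (Gen.d, true), (Gen.h, true), (Gen.b, true), (Gen.c, true), (Gen.d, true), (Gen.e, true), (Gen.f, true), (Gen.g, true), (Gen.j, true)]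
  | .i => [(Gen.h, true), (Gen.d, true), (Gen.e, true), (Gen.c, true), (Gen.d, true), (Gen.h, true), (Gen.f, true), (Gen.g, true), (Gen.e, true), (Gen.f, true), (Gen.d, true), (Gen.e, true), (Gen.c, true), (Gen.d, true), (Gen.h, true), (Gen.i, true), (Gen.j, true), (Gen.g, true), (Gen.f, true), (Gen.e, true), (Gen.d, true), (Gen.h, true), (Gen.c, true), (Gen.d, true), (Gen.e, true), (Gen.f, true), (Gen.g, true), (Gen.j, true)]

def allG : List Gen := [Gen.a, Gen.b, Gen.c, Gen.d, Gen.e, Gen.f, Gen.g, Gen.j, Gen.h, Gen.i]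

theorem hallG : ∀ x : Gen, x ∈ allG := by
  intro x
  cases x <;> decide

theorem hd2K : fixK CE1689.D [Wd ++ Wd] [2, 1640, 224, 1, 0] = true := by decide +kernel

theorem hcommK : fixK CE1689.D (CE1689.SW.map (fun L => L ++ Wd ++ FreeGroup.invRev L ++ FreeGroup.invRev Wd)) [2, 1640, 224, 1, 0] = true := by decide +kernel

theorem hT2K1 : fixK CE1689.D [(List.replicate 3 (Wd ++ T1 ++ Wd ++ FreeGroup.invRev T1)).flatten] [2, 1640, 224, 1, 0] = true := by decide +kernel

theorem hT2K2 : fixK CE1689.D [(List.replicate 2 (Wd ++ T2 ++ Wd ++ FreeGroup.invRev T2)).flatten] [2, 1640, 224, 1, 0] = true := by decide +kernel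

theorem hgwK : fixK CE1689.D (allG.map (fun x => (x, false) :: (gw x ++ Wd ++ FreeGroup.invRev (gw x)))) [2, 1640, 224, 1, 0] = true := by decide +kernel

theorem hd1K : neK CE1689.D Wd [] 1 = true := by decide +kernel

theorem hT1K1 : neK CE1689.D (T1 ++ Wd) (Wd ++ T1) 0 = true := by decide +kernel

theorem hT1K2 : neK CE1689.D (T2 ++ Wd) (Wd ++ T2) 1 = true := by decide +kernel

theorem hTWK1 : toK CE1689.D T1 0 (CE1697p.O.root 1) = true := by decide +kernel

theorem hTWK2 : toK CE1689.D T2 0 (CE1697p.O.root 2) = true := by decide +kernel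


end Cfsg.Agent.Lib.helper9.CE0472
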