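import Cfsg.Agent.Lib.helper9.CosetEnum
import Cfsg.Prelude.Def_Spor_He
import Cfsg.Agent.Lib.helper9.CE1683T0

set_option autoImplicit false

namespace Cfsg.Agent.Lib.helper9.CE1683
open Cfsg.Agent.Lib.helper9.CE
open Cfsg.Spor
open Cfsg.Spor.He (Gen)

noncomputable def fwd1 (x : Gen) (i : Nat) : Nat := Gen.rec (motive := fun _ => Nat) (fwd_a i) (fwd_b i) (fwd_c i) (fwd_d i) (fwd_e i) (fwd_f i) (fwd_g i) x
noncomputable def bwd1 (x : Gen) (i : Nat) : Nat := Gen.rec (motive := fun _ => Nat) (fwd_a i) (fwd_b i) (fwd_c i) (fwd_d i) (fwd_e i) (fwd_f i) (fwd_g i) x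
noncomputable def fin1 (x : Gen) (i : Nat) : Nat := Gen.rec (motive := fun _ => Nat) (fin_a i) (fin_b i) (fin_c i) (fin_d i) (fin_e i) (fin_f i) (fin_g i) x
noncomputable def code (x : Gen) : Nat := Gen.rec (motive := fun _ => Nat) (nat_lit 0) (nat_lit 1) (nat_lit 2) (nat_lit 3) (nat_lit 4) (nat_lit 5) (nat_lit 6) x
noncomputable def dec (k : Nat) : Gen := getD' [Gen.a, Gen.b, Gen.c, Gen.d, Gen.e, Gen.f, Gen.g] Gen.a k
noncomputable def D : Data Gen where
  n := 2058
  fwd1 := fwd1
  bwd1 := bwd1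
  code := code
  dec := dec
  mtag := nat_lit 7
  w := nat_lit 13
  mw := nat_lit 8191
  v := nat_lit 16
  mv := nat_lit 65535
  NN := 7604
  NF := 35256
  np1 := np1
  key1 := key1
  cert1 := cert1
  st1 := st1
  fin1 := fin1
  rn1 := rn1

def nl : List Gen := [Gen.a, Gen.b, Gen.c, Gen.d, Gen.e, Gen.f, Gen.g]
def TW : List Gen := []
def EW : List (Word Gen) := [
  [(Gen.e, true), (Gen.g, false), (Gen.f, false), (Gen.g, false), (Gen.f, false)],
  [(Gen.e, true), (Gen.c, false), (Gen.b, false), (Gen.a, false), (Gen.c, false), (Gen.b, false), (Gen.a, false), (Gen.c, false), (Gen.b, false), (Gen.a, false)],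
  [(Gen.a, true), (Gen.d, false), (Gen.c, false), (Gen.d, false), (Gen.c, false), (Gen.d, false), (Gen.c, false), (Gen.d, false), (Gen.c, false), (Gen.d, false), (Gen.c, false)],
  [(Gen.c, true), (Gen.d, true), (Gen.f, true), (Gen.g, true), (Gen.c, true), (Gen.d, true), (Gen.f, true), (Gen.g, true), (Gen.c, true), (Gen.d, true), (Gen.f, true), (Gen.g, true), (Gen.c, true), (Gen.d, true), (Gen.f, true), (Gen.g, true)]]
def RW : List (Word Gen) := [
  [(Gen.a, true), (Gen.a, true)],
  [(Gen.b, true), (Gen.b, true)],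
  [(Gen.c, true), (Gen.c, true)],
  [(Gen.d, true), (Gen.d, true)],
  [(Gen.e, true), (Gen.e, true)],
  [(Gen.f, true), (Gen.f, true)],
  [(Gen.g, true), (Gen.g, true)],
  [(Gen.a, true), (Gen.b, true), (Gen.a, true), (Gen.b, true), (Gen.a, true), (Gen.b, true), (Gen.a, true), (Gen.b, true)],
  [(Gen.a, true), (Gen.c, true), (Gen.a, true), (Gen.c, true)],
  [(Gen.a, true), (Gen.d, true), (Gen.a, true), (Gen.d, true)],
  [(Gen.a, true), (Gen.e, true), (Gen.a, true), (Gen.e, true)],
  [(Gen.a, true), (Gen.f, true), (Gen.a, true), (Gen.f, true)],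
  [(Gen.a, true), (Gen.g, true), (Gen.a, true), (Gen.g, true)],
  [(Gen.b, true), (Gen.c, true), (Gen.b, true), (Gen.c, true), (Gen.b, true), (Gen.c, true)],
  [(Gen.b, true), (Gen.d, true), (Gen.b, true), (Gen.d, true)],
  [(Gen.b, true), (Gen.e, true), (Gen.b, true), (Gen.e, true)],
  [(Gen.b, true), (Gen.f, true), (Gen.b, true), (Gen.f, true)],
  [(Gen.b, true), (Gen.g, true), (Gen.b, true), (Gen.g, true)],
  [(Gen.c, true), (Gen.d, true), (Gen.c, true), (Gen.d, true), (Gen.c, true), (Gen.d, true), (Gen.c, true), (Gen.d, true), (Gen.c, true), (Gen.d, true), (Gen.c, true), (Gen.d, true), (Gen.c, true), (Gen.d, true), (Gen.c, true), (Gen.d, true), (Gen.c, true), (Gen.d, true), (Gen.c, true), (Gen.d, true)],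
  [(Gen.c, true), (Gen.e, true), (Gen.c, true), (Gen.e, true)],
  [(Gen.c, true), (Gen.f, true), (Gen.c, true), (Gen.f, true)],
  [(Gen.c, true), (Gen.g, true), (Gen.c, true), (Gen.g, true)],
  [(Gen.d, true), (Gen.e, true), (Gen.d, true), (Gen.e, true), (Gen.d, true), (Gen.e, true)],
  [(Gen.d, true), (Gen.f, true), (Gen.d, true), (Gen.f, true), (Gen.d, true), (Gen.f, true)],
  [(Gen.d, true), (Gen.g, true), (Gen.d, true), (Gen.g, true), (Gen.d, true), (Gen.g, true)],
  [(Gen.e, true), (Gen.f, true), (Gen.e, true), (Gen.f, true)],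
  [(Gen.e, true), (Gen.g, true), (Gen.e, true), (Gen.g, true)],
  [(Gen.f, true), (Gen.g, true), (Gen.f, true), (Gen.g, true), (Gen.f, true), (Gen.g, true), (Gen.f, true), (Gen.g, true)],
  [(Gen.e, true), (Gen.g, false), (Gen.f, false), (Gen.g, false), (Gen.f, false)],
  [(Gen.e, true), (Gen.c, false), (Gen.b, false), (Gen.a, false), (Gen.c, false), (Gen.b, false), (Gen.a, false), (Gen.c, false), (Gen.b, false), (Gen.a, false)],
  [(Gen.a, true), (Gen.d, false), (Gen.c, false), (Gen.d, false), (Gen.c, false), (Gen.d, false), (Gen.c, false), (Gen.d, false), (Gen.c, false), (Gen.d, false), (Gen.c, false)],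
  [(Gen.c, true), (Gen.d, true), (Gen.f, true), (Gen.g, true), (Gen.c, true), (Gen.d, true), (Gen.f, true), (Gen.g, true), (Gen.c, true), (Gen.d, true), (Gen.f, true), (Gen.g, true), (Gen.c, true), (Gen.d, true), (Gen.f, true), (Gen.g, true)]]
def RWP : List (Word Gen × Nat) := [
  ([(Gen.a, true), (Gen.a, true)], 1),
  ([(Gen.b, true), (Gen.b, true)], 1),
  ([(Gen.c, true), (Gen.c, true)], 1),
  ([(Gen.d, true), (Gen.d, true)], 1),
  ([(Gen.e, true), (Gen.e, true)], 1),
  ([(Gen.f, true), (Gen.f, true)], 1),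
  ([(Gen.g, true), (Gen.g, true)], 1),
  ([(Gen.a, true), (Gen.b, true), (Gen.a, true), (Gen.b, true), (Gen.a, true), (Gen.b, true), (Gen.a, true), (Gen.b, true)], 2),
  ([(Gen.a, true), (Gen.c, true), (Gen.a, true), (Gen.c, true)], 2),
  ([(Gen.a, true), (Gen.d, true), (Gen.a, true), (Gen.d, true)], 2),
  ([(Gen.a, true), (Gen.e, true), (Gen.a, true), (Gen.e, true)], 2),
  ([(Gen.a, true), (Gen.f, true), (Gen.a, true), (Gen.f, true)], 2),
  ([(Gen.a, true), (Gen.g, true), (Gen.a, true), (Gen.g, true)], 2),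
  ([(Gen.b, true), (Gen.c, true), (Gen.b, true), (Gen.c, true), (Gen.b, true), (Gen.c, true)], 2),
  ([(Gen.b, true), (Gen.d, true), (Gen.b, true), (Gen.d, true)], 2),
  ([(Gen.b, true), (Gen.e, true), (Gen.b, true), (Gen.e, true)], 2),
  ([(Gen.b, true), (Gen.f, true), (Gen.b, true), (Gen.f, true)], 2),
  ([(Gen.b, true), (Gen.g, true), (Gen.b, true), (Gen.g, true)], 2),
  ([(Gen.c, true), (Gen.d, true), (Gen.c, true), (Gen.d, true), (Gen.c, true), (Gen.d, true), (Gen.c, true), (Gen.d, true), (Gen.c, true), (Gen.d, true), (Gen.c, true), (Gen.d, true), (Gen.c, true), (Gen.d, true), (Gen.c, true), (Gen.d, true), (Gen.c, true), (Gen.d, true), (Gen.c, true), (Gen.d, true)], 2),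
  ([(Gen.c, true), (Gen.e, true), (Gen.c, true), (Gen.e, true)], 2),
  ([(Gen.c, true), (Gen.f, true), (Gen.c, true), (Gen.f, true)], 2),
  ([(Gen.c, true), (Gen.g, true), (Gen.c, true), (Gen.g, true)], 2),
  ([(Gen.d, true), (Gen.e, true), (Gen.d, true), (Gen.e, true), (Gen.d, true), (Gen.e, true)], 2),
  ([(Gen.d, true), (Gen.f, true), (Gen.d, true), (Gen.f, true), (Gen.d, true), (Gen.f, true)], 2),
  ([(Gen.d, true), (Gen.g, true), (Gen.d, true), (Gen.g, true), (Gen.d, true), (Gen.g, true)], 2),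
  ([(Gen.e, true), (Gen.f, true), (Gen.e, true), (Gen.f, true)], 2),
  ([(Gen.e, true), (Gen.g, true), (Gen.e, true), (Gen.g, true)], 2),
  ([(Gen.f, true), (Gen.g, true), (Gen.f, true), (Gen.g, true), (Gen.f, true), (Gen.g, true), (Gen.f, true), (Gen.g, true)], 2),
  ([(Gen.e, true), (Gen.g, false), (Gen.f, false), (Gen.g, false), (Gen.f, false)], 5),
  ([(Gen.e, true), (Gen.c, false), (Gen.b, false), (Gen.a, false), (Gen.c, false), (Gen.b, false), (Gen.a, false), (Gen.c, false), (Gen.b, false), (Gen.a, false)], 10),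
  ([(Gen.a, true), (Gen.d, false), (Gen.c, false), (Gen.d, false), (Gen.c, false), (Gen.d, false), (Gen.c, false), (Gen.d, false), (Gen.c, false), (Gen.d, false), (Gen.c, false)], 11),
  ([(Gen.c, true), (Gen.d, true), (Gen.f, true), (Gen.g, true), (Gen.c, true), (Gen.d, true), (Gen.f, true), (Gen.g, true), (Gen.c, true), (Gen.d, true), (Gen.f, true), (Gen.g, true), (Gen.c, true), (Gen.d, true), (Gen.f, true), (Gen.g, true)], 4)]
def SW : List (Word Gen) := [
  [(Gen.a, true)],
  [(Gen.c, true)],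
  [(Gen.d, true)],
  [(Gen.e, true)],
  [(Gen.f, true)],
  [(Gen.a, true), (Gen.b, true), (Gen.a, true), (Gen.b, true)],
  [(Gen.b, true), (Gen.c, true), (Gen.d, true), (Gen.e, true), (Gen.b, true), (Gen.c, true), (Gen.d, true), (Gen.e, true), (Gen.b, true), (Gen.c, true), (Gen.d, true), (Gen.e, true), (Gen.b, true), (Gen.c, true), (Gen.d, true), (Gen.e, true), (Gen.b, true), (Gen.c, true), (Gen.d, true), (Gen.e, true), (Gen.b, true), (Gen.c, true), (Gen.d, true), (Gen.e, true), (Gen.b, true), (Gen.c, true), (Gen.d, true), (Gen.e, true)]]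
def WT : List (Bool × List (Word Gen)) := [
  (false, [[(Gen.a, true), (Gen.a, true)]]),
  (false, [[(Gen.b, true), (Gen.b, true)]]),
  (false, [[(Gen.c, true), (Gen.c, true)]]),
  (false, [[(Gen.d, true), (Gen.d, true)]]),
  (false, [[(Gen.e, true), (Gen.e, true)]]),
  (false, [[(Gen.f, true), (Gen.f, true)]]),
  (false, [[(Gen.g, true), (Gen.g, true)]]),
  (false, [[(Gen.a, true), (Gen.b, true), (Gen.a, true), (Gen.b, true), (Gen.a, true), (Gen.b, true), (Gen.a, true), (Gen.b, true)], [(Gen.b, true), (Gen.a, true), (Gen.b, true), (Gen.a, true), (Gen.b, true), (Gen.a, true), (Gen.b, true), (Gen.a, true)]]),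
  (false, [[(Gen.a, true), (Gen.c, true), (Gen.a, true), (Gen.c, true)], [(Gen.c, true), (Gen.a, true), (Gen.c, true), (Gen.a, true)]]),
  (false, [[(Gen.a, true), (Gen.d, true), (Gen.a, true), (Gen.d, true)], [(Gen.d, true), (Gen.a, true), (Gen.d, true), (Gen.a, true)]]),
  (false, [[(Gen.a, true), (Gen.e, true), (Gen.a, true), (Gen.e, true)], [(Gen.e, true), (Gen.a, true), (Gen.e, true), (Gen.a, true)]]),
  (false, [[(Gen.a, true), (Gen.f, true), (Gen.a, true), (Gen.f, true)], [(Gen.f, true), (Gen.a, true), (Gen.f, true), (Gen.a, true)]]),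
  (false, [[(Gen.a, true), (Gen.g, true), (Gen.a, true), (Gen.g, true)], [(Gen.g, true), (Gen.a, true), (Gen.g, true), (Gen.a, true)]]),
  (false, [[(Gen.b, true), (Gen.c, true), (Gen.b, true), (Gen.c, true), (Gen.b, true), (Gen.c, true)], [(Gen.c, true), (Gen.b, true), (Gen.c, true), (Gen.b, true), (Gen.c, true), (Gen.b, true)]]),
  (false, [[(Gen.b, true), (Gen.d, true), (Gen.b, true), (Gen.d, true)], [(Gen.d, true), (Gen.b, true), (Gen.d, true), (Gen.b, true)]]),
  (false, [[(Gen.b, true), (Gen.e, true), (Gen.b, true), (Gen.e, true)], [(Gen.e, true), (Gen.b, true), (Gen.e, true), (Gen.b, true)]]),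
  (false, [[(Gen.b, true), (Gen.f, true), (Gen.b, true), (Gen.f, true)], [(Gen.f, true), (Gen.b, true), (Gen.f, true), (Gen.b, true)]]),
  (false, [[(Gen.b, true), (Gen.g, true), (Gen.b, true), (Gen.g, true)], [(Gen.g, true), (Gen.b, true), (Gen.g, true), (Gen.b, true)]]),
  (false, [[(Gen.c, true), (Gen.d, true), (Gen.c, true), (Gen.d, true), (Gen.c, true), (Gen.d, true), (Gen.c, true), (Gen.d, true), (Gen.c, true), (Gen.d, true), (Gen.c, true), (Gen.d, true), (Gen.c, true), (Gen.d, true), (Gen.c, true), (Gen.d, true), (Gen.c, true), (Gen.d, true), (Gen.c, true), (Gen.d, true)], [(Gen.d, true), (Gen.c, true), (Gen.d, true), (Gen.c, true), (Gen.d, true), (Gen.c, true), (Gen.d, true), (Gen.c, true), (Gen.d, true), (Gen.c, true), (Gen.d, true), (Gen.c, true), (Gen.d, true), (Gen.c, true), (Gen.d, true), (Gen.c, true), (Gen.d, true), (Gen.c, true), (Gen.d, true), (Gen.c, true)]]),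
  (false, [[(Gen.c, true), (Gen.e, true), (Gen.c, true), (Gen.e, true)], [(Gen.e, true), (Gen.c, true), (Gen.e, true), (Gen.c, true)]]),
  (false, [[(Gen.c, true), (Gen.f, true), (Gen.c, true), (Gen.f, true)], [(Gen.f, true), (Gen.c, true), (Gen.f, true), (Gen.c, true)]]),
  (false, [[(Gen.c, true), (Gen.g, true), (Gen.c, true), (Gen.g, true)], [(Gen.g, true), (Gen.c, true), (Gen.g, true), (Gen.c, true)]]),
  (false, [[(Gen.d, true), (Gen.e, true), (Gen.d, true), (Gen.e, true), (Gen.d, true), (Gen.e, true)], [(Gen.e, true), (Gen.d, true), (Gen.e, true), (Gen.d, true), (Gen.e, true), (Gen.d, true)]]),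
  (false, [[(Gen.d, true), (Gen.f, true), (Gen.d, true), (Gen.f, true), (Gen.d, true), (Gen.f, true)], [(Gen.f, true), (Gen.d, true), (Gen.f, true), (Gen.d, true), (Gen.f, true), (Gen.d, true)]]),
  (false, [[(Gen.d, true), (Gen.g, true), (Gen.d, true), (Gen.g, true), (Gen.d, true), (Gen.g, true)], [(Gen.g, true), (Gen.d, true), (Gen.g, true), (Gen.d, true), (Gen.g, true), (Gen.d, true)]]),
  (false, [[(Gen.e, true), (Gen.f, true), (Gen.e, true), (Gen.f, true)], [(Gen.f, true), (Gen.e, true), (Gen.f, true), (Gen.e, true)]]),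
  (false, [[(Gen.e, true), (Gen.g, true), (Gen.e, true), (Gen.g, true)], [(Gen.g, true), (Gen.e, true), (Gen.g, true), (Gen.e, true)]]),
  (false, [[(Gen.f, true), (Gen.g, true), (Gen.f, true), (Gen.g, true), (Gen.f, true), (Gen.g, true), (Gen.f, true), (Gen.g, true)], [(Gen.g, true), (Gen.f, true), (Gen.g, true), (Gen.f, true), (Gen.g, true), (Gen.f, true), (Gen.g, true), (Gen.f, true)]]),
  (false, [[(Gen.e, true), (Gen.g, true), (Gen.f, true), (Gen.g, true), (Gen.f, true)], [(Gen.g, true), (Gen.f, true), (Gen.g, true), (Gen.f, true), (Gen.e, true)], [(Gen.f, true), (Gen.g, true), (Gen.f, true), (Gen.e, true), (Gen.g, true)], [(Gen.g, true), (Gen.f, true), (Gen.e, true), (Gen.g, true), (Gen.f, true)], [(Gen.f, true), (Gen.e, true), (Gen.g, true), (Gen.f, true), (Gen.g, true)]]),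
  (false, [[(Gen.e, true), (Gen.c, true), (Gen.b, true), (Gen.a, true), (Gen.c, true), (Gen.b, true), (Gen.a, true), (Gen.c, true), (Gen.b, true), (Gen.a, true)], [(Gen.c, true), (Gen.b, true), (Gen.a, true), (Gen.c, true), (Gen.b, true), (Gen.a, true), (Gen.c, true), (Gen.b, true), (Gen.a, true), (Gen.e, true)], [(Gen.b, true), (Gen.a, true), (Gen.c, true), (Gen.b, true), (Gen.a, true), (Gen.c, true), (Gen.b, true), (Gen.a, true), (Gen.e, true), (Gen.c, true)], [(Gen.a, true), (Gen.c, true), (Gen.b, true), (Gen.a, true), (Gen.c, true), (Gen.b, true), (Gen.a, true), (Gen.e, true), (Gen.c, true), (Gen.b, true)], [(Gen.c, true), (Gen.b, true), (Gen.a, true), (Gen.c, true), (Gen.b, true), (Gen.a, true), (Gen.e, true), (Gen.c, true), (Gen.b, true), (Gen.a, true)], [(Gen.b, true), (Gen.a, true), (Gen.c, true), (Gen.b, true), (Gen.a, true), (Gen.e, true), (Gen.c, true), (Gen.b, true), (Gen.a, true), (Gen.c, true)], [(Gen.a, true), (Gen.c, true), (Gen.b, true), (Gen.a, true),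 (Gen.e, true), (Gen.c, true), (Gen.b, true), (Gen.a, true), (Gen.c, true), (Gen.b, true)], [(Gen.c, true), (Gen.b, true), (Gen.a, true), (Gen.e, true), (Gen.c, true), (Gen.b, true), (Gen.a, true), (Gen.c, true), (Gen.b, true), (Gen.a, true)], [(Gen.b, true), (Gen.a, true), (Gen.e, true), (Gen.c, true), (Gen.b, true), (Gen.a, true), (Gen.c, true), (Gen.b, true), (Gen.a, true), (Gen.c, true)], [(Gen.a, true), (Gen.e, true), (Gen.c, true), (Gen.b, true), (Gen.a, true), (Gen.c, true), (Gen.b, true), (Gen.a, true), (Gen.c, true), (Gen.b, true)]]),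
  (false, [[(Gen.a, true), (Gen.d, true), (Gen.c, true), (Gen.d, true), (Gen.c, true), (Gen.d, true), (Gen.c, true), (Gen.d, true), (Gen.c, true), (Gen.d, true), (Gen.c, true)], [(Gen.d, true), (Gen.c, true), (Gen.d, true), (Gen.c, true), (Gen.d, true), (Gen.c, true), (Gen.d, true), (Gen.c, true), (Gen.d, true), (Gen.c, true), (Gen.a, true)], [(Gen.c, true), (Gen.d, true), (Gen.c, true), (Gen.d, true), (Gen.c, true), (Gen.d, true), (Gen.c, true), (Gen.d, true), (Gen.c, true), (Gen.a, true), (Gen.d, true)], [(Gen.d, true), (Gen.c, true), (Gen.d, true), (Gen.c, true), (Gen.d, true), (Gen.c, true), (Gen.d, true), (Gen.c, true), (Gen.a, true), (Gen.d, true), (Gen.c, true)], [(Gen.c, true), (Gen.d, true), (Gen.c, true), (Gen.d, true), (Gen.c, true), (Gen.d, true), (Gen.c, true), (Gen.a, true), (Gen.d, true), (Gen.c, true), (Gen.d, true)], [(Gen.d, true), (Gen.c, true), (Gen.d, true), (Gen.c, true), (Gen.d, true), (Gen.c, true), (Gen.a, true), (Gen.d, true), (Gen.c, true),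 (Gen.d, true), (Gen.c, true)], [(Gen.c, true), (Gen.d, true), (Gen.c, true), (Gen.d, true), (Gen.c, true), (Gen.a, true), (Gen.d, true), (Gen.c, true), (Gen.d, true), (Gen.c, true), (Gen.d, true)], [(Gen.d, true), (Gen.c, true), (Gen.d, true), (Gen.c, true), (Gen.a, true), (Gen.d, true), (Gen.c, true), (Gen.d, true), (Gen.c, true), (Gen.d, true), (Gen.c, true)], [(Gen.c, true), (Gen.d, true), (Gen.c, true), (Gen.a, true), (Gen.d, true), (Gen.c, true), (Gen.d, true), (Gen.c, true), (Gen.d, true), (Gen.c, true), (Gen.d, true)], [(Gen.d, true), (Gen.c, true), (Gen.a, true), (Gen.d, true), (Gen.c, true), (Gen.d, true), (Gen.c, true), (Gen.d, true), (Gen.c, true), (Gen.d, true), (Gen.c, true)], [(Gen.c, true), (Gen.a, true), (Gen.d, true), (Gen.c, true), (Gen.d, true), (Gen.c, true), (Gen.d, true), (Gen.c, true), (Gen.d, true), (Gen.c, true), (Gen.d, true)]]),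
  (false, [[(Gen.c, true), (Gen.d, true), (Gen.f, true), (Gen.g, true), (Gen.c, true), (Gen.d, true), (Gen.f, true), (Gen.g, true), (Gen.c, true), (Gen.d, true), (Gen.f, true), (Gen.g, true), (Gen.c, true), (Gen.d, true), (Gen.f, true), (Gen.g, true)], [(Gen.d, true), (Gen.f, true), (Gen.g, true), (Gen.c, true), (Gen.d, true), (Gen.f, true), (Gen.g, true), (Gen.c, true), (Gen.d, true), (Gen.f, true), (Gen.g, true), (Gen.c, true), (Gen.d, true), (Gen.f, true), (Gen.g, true), (Gen.c, true)], [(Gen.f, true), (Gen.g, true), (Gen.c, true), (Gen.d, true), (Gen.f, true), (Gen.g, true), (Gen.c, true), (Gen.d, true), (Gen.f, true), (Gen.g, true), (Gen.c, true), (Gen.d, true), (Gen.f, true), (Gen.g, true), (Gen.c, true), (Gen.d, true)], [(Gen.g, true), (Gen.c, true), (Gen.d, true), (Gen.f, true), (Gen.g, true), (Gen.c, true), (Gen.d, true), (Gen.f, true), (Gen.g, true), (Gen.c, true), (Gen.d, true), (Gen.f, true), (Gen.g, true), (Gen.c, true), (Gen.d, true), (Gen.f, true)]]),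
  (true, [[(Gen.a, true)]]),
  (true, [[(Gen.c, true)]]),
  (true, [[(Gen.d, true)]]),
  (true, [[(Gen.e, true)]]),
  (true, [[(Gen.f, true)]]),
  (true, [[(Gen.a, true), (Gen.b, true), (Gen.a, true), (Gen.b, true)]]),
  (true, [[(Gen.b, true), (Gen.c, true), (Gen.d, true), (Gen.e, true), (Gen.b, true), (Gen.c, true), (Gen.d, true), (Gen.e, true), (Gen.b, true), (Gen.c, true), (Gen.d, true), (Gen.e, true), (Gen.b, true), (Gen.c, true), (Gen.d, true), (Gen.e, true), (Gen.b, true), (Gen.c, true), (Gen.d, true), (Gen.e, true), (Gen.b, true), (Gen.c, true), (Gen.d, true), (Gen.e, true), (Gen.b, true), (Gen.c, true), (Gen.d, true), (Gen.e, true)]])]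
/-- the relators of the presentation -/
abbrev rels : Set (FreeGroup Gen) := coxRelators He.edges ∪ {r | r ∈ He.extra}
theorem hnl : ∀ x ∈ coxNodes He.edges, x ∈ nl := by decide
theorem hnl' : ∀ x ∈ nl, x ∈ coxNodes He.edges := by decide
theorem hE : He.extra = EW.map FreeGroup.mk := rfl
theorem hRW : RW = coxRW He.edges nl ++ EW := by decide +kernel
theorem hRWP : RWP.map Prod.fst = RW := by decide +kernel
theorem hWTeq : WT = mkWT (fun x => decide (x ∈ nl)) RWP TW SW := by decide +kernel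
theorem hRW1 : ∀ L ∈ RW, wordG rels L = 1 := by
  intro L hL
  rw [hRW] at hL
  exact cox_word_one He.edges He.extra nl EW hnl' hE L hL
theorem hinv : ∀ x : Gen, decide (x ∈ nl) = true → wordG rels [(x, true)] * wordG rels [(x, true)] = 1 := by
  intro x hx
  have hx' : x ∈ nl := of_decide_eq_true hx
  have h1 := hRW1 (sqW x) (by
    rw [hRW]
    exact List.mem_append_left _ (List.mem_append_left _ (List.mem_map.mpr ⟨x, hx', rfl⟩)))
  rw [← wordG_cons]
  exact h1
theorem hdec : ∀ x : Gen, D.dec (D.code x) = x := by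
  intro x
  cases x <;> rfl
theorem hm : ∀ x : Gen, D.code x ≠ D.mtag := by
  intro x
  cases x <;> decide +kernel

end Cfsg.Agent.Lib.helper9.CE1683
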