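import Cfsg.Agent.Lib.helper9.CosetSimple
import Cfsg.Prelude.Def_Spor_He

set_option autoImplicit false

namespace Cfsg.Agent.Lib.helper9.CE1695c
open Cfsg.Agent.Lib.helper9.CE

def fwd_a_g0 : List (List Nat) := [[nat_lit 0x0]]

def fwd_aL : List (List (List Nat)) := [fwd_a_g0]
noncomputable def fwd_a (i : Nat) : Nat := look3 fwd_aL (nat_lit 1) (nat_lit 256) (nat_lit 16) (nat_lit 16) (nat_lit 1) i

def fwd_b_g0 : List (List Nat) := [[nat_lit 0x0]]

def fwd_bL : List (List (List Nat)) := [fwd_b_g0]
noncomputable def fwd_b (i : Nat) : Nat := look3 fwd_bL (nat_lit 1) (nat_lit 256) (nat_lit 16) (nat_lit 16) (nat_lit 1) i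

def fwd_c_g0 : List (List Nat) := [[nat_lit 0x0]]

def fwd_cL : List (List (List Nat)) := [fwd_c_g0]
noncomputable def fwd_c (i : Nat) : Nat := look3 fwd_cL (nat_lit 1) (nat_lit 256) (nat_lit 16) (nat_lit 16) (nat_lit 1) i

def fwd_d_g0 : List (List Nat) := [[nat_lit 0x0]]

def fwd_dL : List (List (List Nat)) := [fwd_d_g0]
noncomputable def fwd_d (i : Nat) : Nat := look3 fwd_dL (nat_lit 1) (nat_lit 256) (nat_lit 16) (nat_lit 16) (nat_lit 1) i

def fwd_e_g0 : List (List Nat) := [[nat_lit 0x0]]

def fwd_eL : List (List (List Nat)) := [fwd_e_g0]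
noncomputable def fwd_e (i : Nat) : Nat := look3 fwd_eL (nat_lit 1) (nat_lit 256) (nat_lit 16) (nat_lit 16) (nat_lit 1) i

def fwd_f_g0 : List (List Nat) := [[nat_lit 0x0]]

def fwd_fL : List (List (List Nat)) := [fwd_f_g0]
noncomputable def fwd_f (i : Nat) : Nat := look3 fwd_fL (nat_lit 1) (nat_lit 256) (nat_lit 16) (nat_lit 16) (nat_lit 1) i

def fwd_g_g0 : List (List Nat) := [[nat_lit 0x0]]

def fwd_gL : List (List (List Nat)) := [fwd_g_g0]
noncomputable def fwd_g (i : Nat) : Nat := look3 fwd_gL (nat_lit 1) (nat_lit 256) (nat_lit 16) (nat_lit 16) (nat_lit 1) i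

def np1_g0 : List (List Nat) := [[nat_lit 0x14802403106802c012007002800c00200000]]

def np1L : List (List (List Nat)) := [np1_g0]
noncomputable def np1 (i : Nat) : Nat := look3 np1L (nat_lit 13) (nat_lit 256) (nat_lit 16) (nat_lit 16) (nat_lit 8191) i

def rn1_g0 : List (List Nat) := [[nat_lit 0x0]]

def rn1L : List (List (List Nat)) := [rn1_g0]
noncomputable def rn1 (i : Nat) : Nat := look3 rn1L (nat_lit 4) (nat_lit 256) (nat_lit 16) (nat_lit 16) (nat_lit 15) i

def fin_a_g0 : List (List Nat) := [[nat_lit 0x47]]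

def fin_aL : List (List (List Nat)) := [fin_a_g0]
noncomputable def fin_a (i : Nat) : Nat := look3 fin_aL (nat_lit 8) (nat_lit 256) (nat_lit 16) (nat_lit 16) (nat_lit 255) i

def fin_b_g0 : List (List Nat) := [[nat_lit 0x3f]]

def fin_bL : List (List (List Nat)) := [fin_b_g0]
noncomputable def fin_b (i : Nat) : Nat := look3 fin_bL (nat_lit 8) (nat_lit 256) (nat_lit 16) (nat_lit 16) (nat_lit 255) i

def fin_c_g0 : List (List Nat) := [[nat_lit 0x48]]

def fin_cL : List (List (List Nat)) := [fin_c_g0]
noncomputable def fin_c (i : Nat) : Nat := look3 fin_cL (nat_lit 8) (nat_lit 256) (nat_lit 16) (nat_lit 16) (nat_lit 255) i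

def fin_d_g0 : List (List Nat) := [[nat_lit 0x20]]

def fin_dL : List (List (List Nat)) := [fin_d_g0]
noncomputable def fin_d (i : Nat) : Nat := look3 fin_dL (nat_lit 8) (nat_lit 256) (nat_lit 16) (nat_lit 16) (nat_lit 255) i

def fin_e_g0 : List (List Nat) := [[nat_lit 0x13]]

def fin_eL : List (List (List Nat)) := [fin_e_g0]
noncomputable def fin_e (i : Nat) : Nat := look3 fin_eL (nat_lit 8) (nat_lit 256) (nat_lit 16) (nat_lit 16) (nat_lit 255) i

def fin_f_g0 : List (List Nat) := [[nat_lit 0x21]]

def fin_fL : List (List (List Nat)) := [fin_f_g0]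
noncomputable def fin_f (i : Nat) : Nat := look3 fin_fL (nat_lit 8) (nat_lit 256) (nat_lit 16) (nat_lit 16) (nat_lit 255) i

def fin_g_g0 : List (List Nat) := [[nat_lit 0x1c]]

def fin_gL : List (List (List Nat)) := [fin_g_g0]
noncomputable def fin_g (i : Nat) : Nat := look3 fin_gL (nat_lit 8) (nat_lit 256) (nat_lit 16) (nat_lit 16) (nat_lit 255) i

def key1_g0 : List (List Nat) := [[nat_lit 0x20000071001101108178108828810072022929279a3aa6aa5aa2a222a499092029488388181118322422411431311331201210713333433533522500300704633622600540504644770374347764367400705547574670607664646560506450405340304230203120102010001]]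

def key1L : List (List (List Nat)) := [key1_g0]
noncomputable def key1 (i : Nat) : Nat := look3 key1L (nat_lit 12) (nat_lit 256) (nat_lit 16) (nat_lit 16) (nat_lit 4095) i

def cert1_g0 : List (List Nat) := [[nat_lit 0x327468e6028d1c8000230800045b43428b882851687422048f003b90d01726067ce487421a0810033b373b6743c02b848001688a80ab914015420400a6028014c8500a8100004f012009e43c05308700a49010048010009048001188e002132b26428484c84ca4990a129321102004160a4c8287804d890001a11c0030228025a44004a98d8f953071f2a4300048454048488808f30f181e20a003ac406075868a8ea03001b2060034c5054690b808a120001261224248700034828006120010a20c001201c0024830004120020620a000a018001482000200500042060006010000c8100010030002202000200800048000000010000]]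

def cert1L : List (List (List Nat)) := [cert1_g0]
noncomputable def cert1 (i : Nat) : Nat := look3 cert1L (nat_lit 27) (nat_lit 256) (nat_lit 16) (nat_lit 16) (nat_lit 134217727) i

def st1_g0 : List (List Nat) := [[nat_lit 0x14544304132402f0027304140314031403140314031402f283f27300334353d02012803343d3c3a362e373a362e373a36343839361d3736223736332d34332f2c302f2a302f221d1d221d22272504200525042005250401231e1e231e23042105022103061c0719061c041c05021c031a07171610140a0710140a0f080f110d0a100e070e0c060b0a0806040200]]

def st1L : List (List (List Nat)) := [st1_g0]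
noncomputable def st1 (i : Nat) : Nat := look3 st1L (nat_lit 8) (nat_lit 256) (nat_lit 16) (nat_lit 16) (nat_lit 255) i


end Cfsg.Agent.Lib.helper9.CE1695c
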