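import Cfsg.Agent.Lib.helper9.CE1695tC0
import Cfsg.Agent.Lib.helper9.CE1695tC1
import Cfsg.Agent.Lib.helper9.CE1695tC2
import Cfsg.Agent.Lib.helper9.CE1695tC3
import Cfsg.Agent.Lib.helper9.CE1695tC4
import Cfsg.Agent.Lib.helper9.CE1695tC5
import Cfsg.Agent.Lib.helper9.CE1695tC6
import Cfsg.Agent.Lib.helper9.CE1695tC7

set_option autoImplicit false

namespace Cfsg.Agent.Lib.helper9.CE1695t
open Cfsg.Agent.Lib.helper9.CE
open Cfsg.Spor
open Cfsg.Spor.He (Gen)

/-- the generators of the subgroup -/
abbrev S0 : Set (FreeGroup Gen) := {Cfsg.Spor.He.a, Cfsg.Spor.He.b, Cfsg.Spor.He.c, Cfsg.Spor.He.d, Cfsg.Spor.He.e}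

theorem hS1 : ∀ s ∈ S0, ∃ L ∈ SW, s = FreeGroup.mk L := by
  intro s hs
  rcases hs with rfl | rfl | rfl | rfl | rfl
  · exact ⟨[(Gen.a, true)], by decide, rfl⟩
  · exact ⟨[(Gen.b, true)], by decide, rfl⟩
  · exact ⟨[(Gen.c, true)], by decide, rfl⟩
  · exact ⟨[(Gen.d, true)], by decide, rfl⟩
  · exact ⟨[(Gen.e, true)], by decide, rfl⟩

theorem hS2 : ∀ L ∈ SW, FreeGroup.mk L ∈ S0 := by
  intro L hL
  simp only [SW, List.mem_cons, List.mem_nil_iff, or_false] at hL
  rcases hL with rfl | rfl | rfl | rfl | rfl
  · exact Or.inl rfl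
  · exact Or.inr (Or.inl rfl)
  · exact Or.inr (Or.inr (Or.inl rfl))
  · exact Or.inr (Or.inr (Or.inr (Or.inl rfl)))
  · exact Or.inr (Or.inr (Or.inr (Or.inr (rfl))))

theorem hS0 : ∀ s ∈ S0, ∃ x ∈ ([Gen.a, Gen.b, Gen.c, Gen.d, Gen.e] : List Gen), s = FreeGroup.of x := by
  intro s hs
  rcases hs with rfl | rfl | rfl | rfl | rfl
  · exact ⟨Gen.a, by decide, rfl⟩
  · exact ⟨Gen.b, by decide, rfl⟩
  · exact ⟨Gen.c, by decide, rfl⟩
  · exact ⟨Gen.d, by decide, rfl⟩
  · exact ⟨Gen.e, by decide, rfl⟩

theorem hperm : ∀ x : Gen, ∀ i, i < D.n → D.permK x i = true := by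
  intro x i hi
  cases x
  · exact (allRange_join (allRange_spec hperm_a_0) (allRange_join (allRange_spec hperm_a_1) (allRange_spec hperm_a_2))) i (Nat.zero_le _) hi
  · exact (allRange_join (allRange_spec hperm_b_0) (allRange_join (allRange_spec hperm_b_1) (allRange_spec hperm_b_2))) i (Nat.zero_le _) hi
  · exact (allRange_join (allRange_spec hperm_c_0) (allRange_join (allRange_spec hperm_c_1) (allRange_spec hperm_c_2))) i (Nat.zero_le _) hi
  · exact (allRange_join (allRange_spec hperm_d_0) (allRange_join (allRange_spec hperm_d_1) (allRange_spec hperm_d_2))) i (Nat.zero_le _) hi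
  · exact (allRange_join (allRange_spec hperm_e_0) (allRange_join (allRange_spec hperm_e_1) (allRange_spec hperm_e_2))) i (Nat.zero_le _) hi
  · exact (allRange_join (allRange_spec hperm_f_0) (allRange_join (allRange_spec hperm_f_1) (allRange_spec hperm_f_2))) i (Nat.zero_le _) hi
  · exact (allRange_join (allRange_spec hperm_g_0) (allRange_join (allRange_spec hperm_g_1) (allRange_spec hperm_g_2))) i (Nat.zero_le _) hi

theorem hfin : ∀ x : Gen, ∀ i, i < D.n → D.finK x i = true := by
  intro x i hi
  cases x
  · exact (allRange_join (allRange_spec hfin_a_0) (allRange_join (allRange_spec hfin_a_1) (allRange_spec hfin_a_2))) i (Nat.zero_le _) hi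
  · exact (allRange_join (allRange_spec hfin_b_0) (allRange_join (allRange_spec hfin_b_1) (allRange_spec hfin_b_2))) i (Nat.zero_le _) hi
  · exact (allRange_join (allRange_spec hfin_c_0) (allRange_join (allRange_spec hfin_c_1) (allRange_spec hfin_c_2))) i (Nat.zero_le _) hi
  · exact (allRange_join (allRange_spec hfin_d_0) (allRange_join (allRange_spec hfin_d_1) (allRange_spec hfin_d_2))) i (Nat.zero_le _) hi
  · exact (allRange_join (allRange_spec hfin_e_0) (allRange_join (allRange_spec hfin_e_1) (allRange_spec hfin_e_2))) i (Nat.zero_le _) hi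
  · exact (allRange_join (allRange_spec hfin_f_0) (allRange_join (allRange_spec hfin_f_1) (allRange_spec hfin_f_2))) i (Nat.zero_le _) hi
  · exact (allRange_join (allRange_spec hfin_g_0) (allRange_join (allRange_spec hfin_g_1) (allRange_spec hfin_g_2))) i (Nat.zero_le _) hi

theorem hrel : ∀ L ∈ RW, ∀ i, 0 ≤ i → i < D.n → D.walk L i = i :=
  (D.rels_join (D.relsK_spec hrel_0) (D.rels_join (D.relsK_spec hrel_1) (D.rels_join (D.relsK_spec hrel_2) (D.rels_join (D.relsK_spec hrel_3) (D.rels_join (D.relsK_spec hrel_4) (D.rels_join (D.relsK_spec hrel_5) (D.rels_join (D.relsK_spec hrel_6) (D.rels_join (D.relsK_spec hrel_7) (D.rels_join (D.relsK_spec hrel_8) (D.rels_join (D.relsK_spec hrel_9) (D.rels_join (D.relsK_spec hrel_10) (D.rels_join (D.relsK_spec hrel_11) (D.rels_join (D.relsK_spec hrel_12) (D.rels_join (D.relsK_spec hrel_13) (D.rels_join (D.relsK_spec hrel_14) (D.rels_join (D.relsK_spec hrel_15) (D.rels_join (D.relsK_spec hrel_16) (D.rels_join (D.relsK_spec hrel_17) (D.rels_join (D.relsK_spec hrel_18) (D.rels_join (D.relsK_spec hrel_19) (D.rels_join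 (D.relsK_spec hrel_20) (D.rels_join (D.relsK_spec hrel_21) (D.rels_join (D.relsK_spec hrel_22) (D.rels_join (D.relsK_spec hrel_23) (D.rels_join (D.relsK_spec hrel_24) (D.rels_join (D.relsK_spec hrel_25) (D.rels_join (D.relsK_spec hrel_26) (D.rels_join (D.relsK_spec hrel_27) (D.rels_join (D.relsK_spec hrel_28) (D.rels_join (D.relsK_spec hrel_29) (D.rels_join (D.relsK_spec hrel_30) (D.rels_join (D.relsK_spec hrel_31) (D.rels_join (D.relsK_spec hrel_32) (D.rels_join (D.relsK_spec hrel_33) (D.rels_join (D.relsK_spec hrel_34) (D.rels_join (D.relsK_spec hrel_35) (D.rels_join (D.relsK_spec hrel_36) (D.rels_join (D.relsK_spec hrel_37) (D.rels_join (D.relsK_spec hrel_38) (D.rels_join (D.relsK_spec hrel_39) (D.rels_join (D.relsK_spec hrel_40) (D.rels_join (D.relsK_spec hrel_41) (D.rels_join (D.relsK_spec hrel_42) (D.rels_join (D.relsK_spec hrel_43) (D.rels_join (D.relsK_spec hrel_44) (D.rels_join (D.relsK_spec hrel_45) (D.rels_join (D.relsK_spec hrel_46) (D.rels_join (D.relsK_spec hrel_47) (D.rels_join (D.relsK_spec hrel_48) (D.rels_join (D.relsK_spec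 hrel_49) (D.rels_join (D.relsK_spec hrel_50) (D.rels_join (D.relsK_spec hrel_51) (D.rels_join (D.relsK_spec hrel_52) (D.rels_join (D.relsK_spec hrel_53) (D.rels_join (D.relsK_spec hrel_54) (D.rels_join (D.relsK_spec hrel_55) (D.rels_join (D.relsK_spec hrel_56) (D.rels_join (D.relsK_spec hrel_57) (D.rels_join (D.relsK_spec hrel_58) (D.rels_join (D.relsK_spec hrel_59) (D.rels_join (D.relsK_spec hrel_60) (D.rels_join (D.relsK_spec hrel_61) (D.rels_join (D.relsK_spec hrel_62) (D.rels_join (D.relsK_spec hrel_63) (D.rels_join (D.relsK_spec hrel_64) (D.rels_join (D.relsK_spec hrel_65) (D.rels_join (D.relsK_spec hrel_66) (D.rels_join (D.relsK_spec hrel_67) (D.rels_join (D.relsK_spec hrel_68) (D.rels_join (D.relsK_spec hrel_69) (D.rels_join (D.relsK_spec hrel_70) (D.rels_join (D.relsK_spec hrel_71) (D.rels_join (D.relsK_spec hrel_72) (D.rels_join (D.relsK_spec hrel_73) (D.rels_join (D.relsK_spec hrel_74) (D.rels_join (D.relsK_spec hrel_75) (D.rels_join (D.relsK_spec hrel_76) (D.rels_join (D.relsK_spec hrel_77) (D.rels_join (D.relsK_spec hrel_78) (D.rels_join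 (D.relsK_spec hrel_79) (D.rels_join (D.relsK_spec hrel_80) (D.rels_join (D.relsK_spec hrel_81) (D.rels_join (D.relsK_spec hrel_82) (D.rels_join (D.relsK_spec hrel_83) (D.rels_join (D.relsK_spec hrel_84) (D.rels_join (D.relsK_spec hrel_85) (D.rels_join (D.relsK_spec hrel_86) (D.rels_join (D.relsK_spec hrel_87) (D.rels_join (D.relsK_spec hrel_88) (D.rels_join (D.relsK_spec hrel_89) (D.rels_join (D.relsK_spec hrel_90) (D.rels_join (D.relsK_spec hrel_91) (D.rels_join (D.relsK_spec hrel_92) (D.rels_join (D.relsK_spec hrel_93) (D.rels_join (D.relsK_spec hrel_94) (D.rels_join (D.relsK_spec hrel_95) (D.rels_join (D.relsK_spec hrel_96) (D.rels_join (D.relsK_spec hrel_97) (D.rels_join (D.relsK_spec hrel_98) (D.rels_join (D.relsK_spec hrel_99) (D.rels_join (D.relsK_spec hrel_100) (D.rels_join (D.relsK_spec hrel_101) (D.rels_join (D.relsK_spec hrel_102) (D.rels_join (D.relsK_spec hrel_103) (D.rels_join (D.relsK_spec hrel_104) (D.rels_join (D.relsK_spec hrel_105) (D.rels_join (D.relsK_spec hrel_106) (D.rels_join (D.relsK_spec hrel_107) (D.rels_join (D.relsK_spec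 hrel_108) (D.rels_join (D.relsK_spec hrel_109) (D.rels_join (D.relsK_spec hrel_110) (D.rels_join (D.relsK_spec hrel_111) (D.rels_join (D.relsK_spec hrel_112) (D.rels_join (D.relsK_spec hrel_113) (D.relsK_spec hrel_114)))))))))))))))))))))))))))))))))))))))))))))))))))))))))))))))))))))))))))))))))))))))))))))))))))))))))))))))))))

theorem cert : Cert D rels S0 SW WT where
  hn := by decide
  hperm := hperm
  hlift := cox_lift He.edges He.extra nl EW hnl hE (D.perm hperm) (fun L hL =>
    D.lift_mk_eq_one hperm L (fun i hi => hrel L (hRW ▸ hL) i (Nat.zero_le _) hi))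
  hS1 := hS1
  hsub := D.subK_spec hsubK
  hdec := hdec
  hm := hm
  hWT := hWTeq ▸ mkWT_spec rels S0 _ RWP TW SW hinv
    (fun wp hwp => hRW1 wp.1 (hRWP ▸ List.mem_map_of_mem hwp)) hS2
  hpi0 := hpi0
  htree := (allRange_join (allRange_spec htree_0) (allRange_join (allRange_spec htree_1) (allRange_join (allRange_spec htree_2) (allRange_join (allRange_spec htree_3) (allRange_join (allRange_spec htree_4) (allRange_join (allRange_spec htree_5) (allRange_spec htree_6)))))))
  hrn0 := hrn0
  hrn := fun i hi => (allRange_join (allRange_spec hrnK_0) (allRange_join (allRange_spec hrnK_1) (allRange_spec hrnK_2))) i (Nat.zero_le _) hi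
  hfact := fun id hid => (allRange_join (allRange_spec hfact_0) (allRange_join (allRange_spec hfact_1) (allRange_join (allRange_spec hfact_2) (allRange_join (allRange_spec hfact_3) (allRange_join (allRange_spec hfact_4) (allRange_join (allRange_spec hfact_5) (allRange_join (allRange_spec hfact_6) (allRange_join (allRange_spec hfact_7) (allRange_join (allRange_spec hfact_8) (allRange_join (allRange_spec hfact_9) (allRange_join (allRange_spec hfact_10) (allRange_join (allRange_spec hfact_11) (allRange_join (allRange_spec hfact_12) (allRange_join (allRange_spec hfact_13) (allRange_join (allRange_spec hfact_14) (allRange_join (allRange_spec hfact_15) (allRange_join (allRange_spec hfact_16) (allRange_join (allRange_spec hfact_17) (allRange_join (allRange_spec hfact_18) (allRange_join (allRange_spec hfact_19) (allRange_join (allRange_spec hfact_20) (allRange_join (allRange_spec hfact_21) (allRange_join (allRange_spec hfact_22) (allRange_join (allRange_spec hfact_23) (allRange_join (allRange_spec hfact_24) (allRange_join (allRange_spec hfact_25) (allRange_join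 (allRange_spec hfact_26) (allRange_join (allRange_spec hfact_27) (allRange_join (allRange_spec hfact_28) (allRange_join (allRange_spec hfact_29) (allRange_join (allRange_spec hfact_30) (allRange_join (allRange_spec hfact_31) (allRange_join (allRange_spec hfact_32) (allRange_join (allRange_spec hfact_33) (allRange_join (allRange_spec hfact_34) (allRange_join (allRange_spec hfact_35) (allRange_join (allRange_spec hfact_36) (allRange_join (allRange_spec hfact_37) (allRange_join (allRange_spec hfact_38) (allRange_join (allRange_spec hfact_39) (allRange_join (allRange_spec hfact_40) (allRange_join (allRange_spec hfact_41) (allRange_join (allRange_spec hfact_42) (allRange_join (allRange_spec hfact_43) (allRange_join (allRange_spec hfact_44) (allRange_join (allRange_spec hfact_45) (allRange_join (allRange_spec hfact_46) (allRange_join (allRange_spec hfact_47) (allRange_join (allRange_spec hfact_48) (allRange_join (allRange_spec hfact_49) (allRange_join (allRange_spec hfact_50) (allRange_join (allRange_spec hfact_51) (allRange_join (allRange_spec hfact_52)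 (allRange_join (allRange_spec hfact_53) (allRange_join (allRange_spec hfact_54) (allRange_join (allRange_spec hfact_55) (allRange_join (allRange_spec hfact_56) (allRange_join (allRange_spec hfact_57) (allRange_join (allRange_spec hfact_58) (allRange_join (allRange_spec hfact_59) (allRange_join (allRange_spec hfact_60) (allRange_join (allRange_spec hfact_61) (allRange_join (allRange_spec hfact_62) (allRange_join (allRange_spec hfact_63) (allRange_join (allRange_spec hfact_64) (allRange_join (allRange_spec hfact_65) (allRange_join (allRange_spec hfact_66) (allRange_join (allRange_spec hfact_67) (allRange_join (allRange_spec hfact_68) (allRange_join (allRange_spec hfact_69) (allRange_join (allRange_spec hfact_70) (allRange_join (allRange_spec hfact_71) (allRange_join (allRange_spec hfact_72) (allRange_join (allRange_spec hfact_73) (allRange_join (allRange_spec hfact_74) (allRange_join (allRange_spec hfact_75) (allRange_join (allRange_spec hfact_76) (allRange_join (allRange_spec hfact_77) (allRange_join (allRange_spec hfact_78) (allRange_join (allRange_spec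 hfact_79) (allRange_join (allRange_spec hfact_80) (allRange_join (allRange_spec hfact_81) (allRange_join (allRange_spec hfact_82) (allRange_join (allRange_spec hfact_83) (allRange_join (allRange_spec hfact_84) (allRange_join (allRange_spec hfact_85) (allRange_join (allRange_spec hfact_86) (allRange_join (allRange_spec hfact_87) (allRange_join (allRange_spec hfact_88) (allRange_join (allRange_spec hfact_89) (allRange_join (allRange_spec hfact_90) (allRange_join (allRange_spec hfact_91) (allRange_join (allRange_spec hfact_92) (allRange_spec hfact_93)))))))))))))))))))))))))))))))))))))))))))))))))))))))))))))))))))))))))))))))))))))))))))))) id (Nat.zero_le _) hid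
  hfin := hfin

end Cfsg.Agent.Lib.helper9.CE1695t
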