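import Cfsg.Agent.Lib.helper9.CE1698pD

set_option autoImplicit false

namespace Cfsg.Agent.Lib.helper9.CE1698p
open Cfsg.Agent.Lib.helper9 Cfsg.Agent.Lib.helper9.CE
open Cfsg.Spor.Fi24 (Gen)

theorem horb4_0 : allRange 0 54581 (OL4.orb2K CE1690.D LW4) = true := by decide +kernel
theorem horb3_26 : allRange 267475 276417 (OL3.orb2K CE1690.D LW3) = true := by decide +kernel
theorem horb3_3 : allRange 67740 81856 (OL3.orb2K CE1690.D LW3) = true := by decide +kernel
theorem horb3_17 : allRange 198805 206844 (OL3.orb2K CE1690.D LW3) = true := by decide +kernel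
theorem horb3_24 : allRange 251919 259653 (OL3.orb2K CE1690.D LW3) = true := by decide +kernel
theorem horb3_29 : allRange 293628 301437 (OL3.orb2K CE1690.D LW3) = true := by decide +kernel
theorem horb0_1 : allRange 42858 85716 (OL0.orb2K CE1690.D LW0) = true := by decide +kernel
theorem horb0_5 : allRange 214290 257148 (OL0.orb2K CE1690.D LW0) = true := by decide +kernel
theorem horb2_4 : allRange 221940 270246 (OL2.orb2K CE1690.D LW2) = true := by decide +kernel
theorem horb2_3 : allRange 172999 221940 (OL2.orb2K CE1690.D LW2) = true := by decide +kernel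
theorem horb3_7 : allRange 114686 123161 (OL3.orb2K CE1690.D LW3) = true := by decide +kernel
theorem horb2_1 : allRange 60000 120000 (OL2.orb2K CE1690.D LW2) = true := by decide +kernel
theorem horbO_0 : allRange 0 40000 (O.orbK CE1690.D CE1690.SW) = true := by decide +kernel
theorem horbO_4 : allRange 160000 200000 (O.orbK CE1690.D CE1690.SW) = true := by decide +kernel
theorem horb2_0 : allRange 0 60000 (OL2.orb2K CE1690.D LW2) = true := by decide +kernel
theorem hpc_0_4 : allRange 240000 300000 (O.pcK 0) = true := by decide +kernel
theorem hpc_1_3 : allRange 180000 240000 (O.pcK 1) = true := by decide +kernel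
theorem hpc_2_2 : allRange 120000 180000 (O.pcK 2) = true := by decide +kernel
theorem hpc0_1 : allRange 60000 120000 (OL0.pcK 1) = true := by decide +kernel
theorem hpc1_0 : allRange 0 60000 (OL1.pcK 1) = true := by decide +kernel
theorem hpc1_4 : allRange 240000 300000 (OL1.pcK 1) = true := by decide +kernel
theorem hpc2_3 : allRange 180000 240000 (OL2.pcK 1) = true := by decide +kernel
theorem hpc3_2 : allRange 120000 180000 (OL3.pcK 1) = true := by decide +kernel
theorem hpc4_1 : allRange 60000 120000 (OL4.pcK 1) = true := by decide +kernel
theorem horbO_7 : allRange 280000 306936 (O.orbK CE1690.D CE1690.SW) = true := by decide +kernel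
theorem horb4_2 : allRange 114581 174581 (OL4.orb2K CE1690.D LW4) = true := by decide +kernel
theorem hinvO_4 : O.invsK CE1690.D CE1690.SW 36360 45450 = true := by decide +kernel
theorem hinvO_8 : O.invsK CE1690.D CE1690.SW 72720 81810 = true := by decide +kernel
theorem hinvO_12 : O.invsK CE1690.D CE1690.SW 109080 118170 = true := by decide +kernel
theorem hinvO_16 : O.invsK CE1690.D CE1690.SW 145440 154530 = true := by decide +kernel
theorem hinvO_20 : O.invsK CE1690.D CE1690.SW 181800 190890 = true := by decide +kernel
theorem hinvO_24 : O.invsK CE1690.D CE1690.SW 218160 227250 = true := by decide +kernel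
theorem hinvO_28 : O.invsK CE1690.D CE1690.SW 254520 263610 = true := by decide +kernel
theorem hinvO_32 : O.invsK CE1690.D CE1690.SW 290880 299970 = true := by decide +kernel
theorem hlabk_1 : allRange 60000 120000 (O.labK 3) = true := by decide +kernel
theorem hlabk_3 : allRange 180000 240000 (O.labK 3) = true := by decide +kernel
theorem horb4_5 : allRange 294581 306936 (OL4.orb2K CE1690.D LW4) = true := by decide +kernel
theorem hpc2_5 : allRange 300000 306936 (OL2.pcK 1) = true := by decide +kernel
theorem hfix3 : fixK CE1690.D LW3 [704, 1, 0] = true := by decide +kernel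
theorem hfix2 : fixK CE1690.D LW2 [1, 0] = true := by decide +kernel
theorem hfix1 : fixK CE1690.D LW1 [0] = true := by decide +kernel

end Cfsg.Agent.Lib.helper9.CE1698p
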