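import Cfsg.Agent.Lib.helper9.CE1698pD

set_option autoImplicit false

namespace Cfsg.Agent.Lib.helper9.CE1698p
open Cfsg.Agent.Lib.helper9 Cfsg.Agent.Lib.helper9.CE
open Cfsg.Spor.Fi24 (Gen)

theorem horb3_15 : allRange 183744 190942 (OL3.orb2K CE1690.D LW3) = true := by decide +kernel
theorem horb3_4 : allRange 81856 93884 (OL3.orb2K CE1690.D LW3) = true := by decide +kernel
theorem horb3_27 : allRange 276417 284553 (OL3.orb2K CE1690.D LW3) = true := by decide +kernel
theorem horb3_6 : allRange 103523 114686 (OL3.orb2K CE1690.D LW3) = true := by decide +kernel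
theorem horb3_11 : allRange 151036 159607 (OL3.orb2K CE1690.D LW3) = true := by decide +kernel
theorem horb3_18 : allRange 206844 213785 (OL3.orb2K CE1690.D LW3) = true := by decide +kernel
theorem horb3_9 : allRange 133352 142164 (OL3.orb2K CE1690.D LW3) = true := by decide +kernel
theorem horb0_3 : allRange 128574 171432 (OL0.orb2K CE1690.D LW0) = true := by decide +kernel
theorem horb1_1 : allRange 51571 99817 (OL1.orb2K CE1690.D LW1) = true := by decide +kernel
theorem horb1_2 : allRange 99817 145914 (OL1.orb2K CE1690.D LW1) = true := by decide +kernel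
theorem horb1_3 : allRange 145914 191341 (OL1.orb2K CE1690.D LW1) = true := by decide +kernel
theorem horb0_0 : allRange 0 42858 (OL0.orb2K CE1690.D LW0) = true := by decide +kernel
theorem horbO_2 : allRange 80000 120000 (O.orbK CE1690.D CE1690.SW) = true := by decide +kernel
theorem horbO_6 : allRange 240000 280000 (O.orbK CE1690.D CE1690.SW) = true := by decide +kernel
theorem hpc_0_0 : allRange 0 60000 (O.pcK 0) = true := by decide +kernel
theorem hpc_0_1 : allRange 60000 120000 (O.pcK 0) = true := by decide +kernel
theorem hpc_1_0 : allRange 0 60000 (O.pcK 1) = true := by decide +kernel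
theorem hpc_1_4 : allRange 240000 300000 (O.pcK 1) = true := by decide +kernel
theorem hpc_2_3 : allRange 180000 240000 (O.pcK 2) = true := by decide +kernel
theorem hpc0_2 : allRange 120000 180000 (OL0.pcK 1) = true := by decide +kernel
theorem hpc1_1 : allRange 60000 120000 (OL1.pcK 1) = true := by decide +kernel
theorem hpc2_0 : allRange 0 60000 (OL2.pcK 1) = true := by decide +kernel
theorem hpc2_4 : allRange 240000 300000 (OL2.pcK 1) = true := by decide +kernel
theorem hpc3_3 : allRange 180000 240000 (OL3.pcK 1) = true := by decide +kernel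
theorem hpc4_2 : allRange 120000 180000 (OL4.pcK 1) = true := by decide +kernel
theorem horb1_6 : allRange 281172 306936 (OL1.orb2K CE1690.D LW1) = true := by decide +kernel
theorem hinvO_3 : O.invsK CE1690.D CE1690.SW 27270 36360 = true := by decide +kernel
theorem hinvO_7 : O.invsK CE1690.D CE1690.SW 63630 72720 = true := by decide +kernel
theorem hinvO_11 : O.invsK CE1690.D CE1690.SW 99990 109080 = true := by decide +kernel
theorem hinvO_15 : O.invsK CE1690.D CE1690.SW 136350 145440 = true := by decide +kernel
theorem hinvO_19 : O.invsK CE1690.D CE1690.SW 172710 181800 = true := by decide +kernel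
theorem hinvO_23 : O.invsK CE1690.D CE1690.SW 209070 218160 = true := by decide +kernel
theorem hinvO_27 : O.invsK CE1690.D CE1690.SW 245430 254520 = true := by decide +kernel
theorem hinvO_31 : O.invsK CE1690.D CE1690.SW 281790 290880 = true := by decide +kernel
theorem hlabk_0 : allRange 0 60000 (O.labK 3) = true := by decide +kernel
theorem hlabk_2 : allRange 120000 180000 (O.labK 3) = true := by decide +kernel
theorem hfix4 : fixK CE1690.D LW4 [4232, 704, 1, 0] = true := by decide +kernel
theorem hpc1_5 : allRange 300000 306936 (OL1.pcK 1) = true := by decide +kernel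
theorem hlabk_5 : allRange 300000 306936 (O.labK 3) = true := by decide +kernel
theorem hfixY : fixK CE1690.D [Yp] [320, 4232, 704, 1, 0] = true := by decide +kernel
theorem hnum : ∀ s ∈ (List.range 3).sublists, 0 ∈ s → (s.map (fun c => ([1, 275264, 31671] : List Nat).getD c 0)).sum ∣ CE1690.D.n → s = [0] ∨ s = List.range 3 := by decide +kernel
theorem hYp : Yp = (List.replicate 29 Yw).flatten := by decide +kernel
theorem hpcz_0 : O.pc 0 0 = 0 := by decide +kernel
theorem hpcn_0 : O.pc 0 306936 = 1 := by decide +kernel
theorem hpcz_1 : O.pc 1 0 = 0 := by decide +kernel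
theorem hpcn_1 : O.pc 1 306936 = 275264 := by decide +kernel
theorem hpcz_2 : O.pc 2 0 = 0 := by decide +kernel
theorem hpcn_2 : O.pc 2 306936 = 31671 := by decide +kernel
theorem hlab0 : O.lab 0 = 0 := by decide +kernel
theorem hrootO : O.root 0 = 0 := by decide +kernel
theorem hfix0 : fixK CE1690.D LW0 [] = true := by decide +kernel
theorem hpcz0 : OL0.pc 1 0 = 0 := by decide +kernel
theorem hpcn0 : OL0.pc 1 306936 = 306936 := by decide +kernel
theorem hroot0 : OL0.root 1 = 0 := by decide +kernel
theorem hpcz1 : OL1.pc 1 0 = 0 := by decide +kernel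
theorem hpcn1 : OL1.pc 1 306936 = 275264 := by decide +kernel
theorem hroot1 : OL1.root 1 = 1 := by decide +kernel
theorem hpcz2 : OL2.pc 1 0 = 0 := by decide +kernel
theorem hpcn2 : OL2.pc 1 306936 = 218400 := by decide +kernel
theorem hroot2 : OL2.root 1 = 704 := by decide +kernel
theorem hpcz3 : OL3.pc 1 0 = 0 := by decide +kernel
theorem hpcn3 : OL3.pc 1 306936 = 93312 := by decide +kernel
theorem hroot3 : OL3.root 1 = 4232 := by decide +kernel
theorem hpcz4 : OL4.pc 1 0 = 0 := by decide +kernel
theorem hpcn4 : OL4.pc 1 306936 = 1458 := by decide +kernel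
theorem hroot4 : OL4.root 1 = 320 := by decide +kernel

end Cfsg.Agent.Lib.helper9.CE1698p
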