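import Cfsg.Agent.Lib.helper9.CosetSimple
import Cfsg.Prelude.Def_Spor_Fi24

set_option autoImplicit false

namespace Cfsg.Agent.Lib.helper9.CE1698q3
open Cfsg.Agent.Lib.helper9.CE

def fwd_l_g0 : List (List Nat) := [[nat_lit 0x1]]

def fwd_lL : List (List (List Nat)) := [fwd_l_g0]
noncomputable def fwd_l (i : Nat) : Nat := look3 fwd_lL (nat_lit 1) (nat_lit 256) (nat_lit 16) (nat_lit 16) (nat_lit 1) i

def fwd_k_g0 : List (List Nat) := [[nat_lit 0x2]]

def fwd_kL : List (List (List Nat)) := [fwd_k_g0]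
noncomputable def fwd_k (i : Nat) : Nat := look3 fwd_kL (nat_lit 1) (nat_lit 256) (nat_lit 16) (nat_lit 16) (nat_lit 1) i

def fwd_a_g0 : List (List Nat) := [[nat_lit 0x2]]

def fwd_aL : List (List (List Nat)) := [fwd_a_g0]
noncomputable def fwd_a (i : Nat) : Nat := look3 fwd_aL (nat_lit 1) (nat_lit 256) (nat_lit 16) (nat_lit 16) (nat_lit 1) i

def fwd_b_g0 : List (List Nat) := [[nat_lit 0x2]]

def fwd_bL : List (List (List Nat)) := [fwd_b_g0]
noncomputable def fwd_b (i : Nat) : Nat := look3 fwd_bL (nat_lit 1) (nat_lit 256) (nat_lit 16) (nat_lit 16) (nat_lit 1) i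

def fwd_c_g0 : List (List Nat) := [[nat_lit 0x2]]

def fwd_cL : List (List (List Nat)) := [fwd_c_g0]
noncomputable def fwd_c (i : Nat) : Nat := look3 fwd_cL (nat_lit 1) (nat_lit 256) (nat_lit 16) (nat_lit 16) (nat_lit 1) i

def fwd_d_g0 : List (List Nat) := [[nat_lit 0x2]]

def fwd_dL : List (List (List Nat)) := [fwd_d_g0]
noncomputable def fwd_d (i : Nat) : Nat := look3 fwd_dL (nat_lit 1) (nat_lit 256) (nat_lit 16) (nat_lit 16) (nat_lit 1) i

def fwd_e_g0 : List (List Nat) := [[nat_lit 0x2]]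

def fwd_eL : List (List (List Nat)) := [fwd_e_g0]
noncomputable def fwd_e (i : Nat) : Nat := look3 fwd_eL (nat_lit 1) (nat_lit 256) (nat_lit 16) (nat_lit 16) (nat_lit 1) i

def fwd_f_g0 : List (List Nat) := [[nat_lit 0x2]]

def fwd_fL : List (List (List Nat)) := [fwd_f_g0]
noncomputable def fwd_f (i : Nat) : Nat := look3 fwd_fL (nat_lit 1) (nat_lit 256) (nat_lit 16) (nat_lit 16) (nat_lit 1) i

def fwd_g_g0 : List (List Nat) := [[nat_lit 0x2]]

def fwd_gL : List (List (List Nat)) := [fwd_g_g0]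
noncomputable def fwd_g (i : Nat) : Nat := look3 fwd_gL (nat_lit 1) (nat_lit 256) (nat_lit 16) (nat_lit 16) (nat_lit 1) i

def fwd_j_g0 : List (List Nat) := [[nat_lit 0x2]]

def fwd_jL : List (List (List Nat)) := [fwd_j_g0]
noncomputable def fwd_j (i : Nat) : Nat := look3 fwd_jL (nat_lit 1) (nat_lit 256) (nat_lit 16) (nat_lit 16) (nat_lit 1) i

def fwd_h_g0 : List (List Nat) := [[nat_lit 0x2]]

def fwd_hL : List (List (List Nat)) := [fwd_h_g0]
noncomputable def fwd_h (i : Nat) : Nat := look3 fwd_hL (nat_lit 1) (nat_lit 256) (nat_lit 16) (nat_lit 16) (nat_lit 1) i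

def fwd_i_g0 : List (List Nat) := [[nat_lit 0x2]]

def fwd_iL : List (List (List Nat)) := [fwd_i_g0]
noncomputable def fwd_i (i : Nat) : Nat := look3 fwd_iL (nat_lit 1) (nat_lit 256) (nat_lit 16) (nat_lit 16) (nat_lit 1) i

def np1_g0 : List (List Nat) := [[nat_lit 0x5c455114c451110c45700540130044003000404000]]

def np1L : List (List (List Nat)) := [np1_g0]
noncomputable def np1 (i : Nat) : Nat := look3 np1L (nat_lit 14) (nat_lit 256) (nat_lit 16) (nat_lit 16) (nat_lit 16383) i

def rn1_g0 : List (List Nat) := [[nat_lit 0x10]]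

def rn1L : List (List (List Nat)) := [rn1_g0]
noncomputable def rn1 (i : Nat) : Nat := look3 rn1L (nat_lit 4) (nat_lit 256) (nat_lit 16) (nat_lit 16) (nat_lit 15) i

def fin_l_g0 : List (List Nat) := [[nat_lit 0x1c6]]

def fin_lL : List (List (List Nat)) := [fin_l_g0]
noncomputable def fin_l (i : Nat) : Nat := look3 fin_lL (nat_lit 6) (nat_lit 256) (nat_lit 16) (nat_lit 16) (nat_lit 63) i

def fin_k_g0 : List (List Nat) := [[nat_lit 0x951]]

def fin_kL : List (List (List Nat)) := [fin_k_g0]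
noncomputable def fin_k (i : Nat) : Nat := look3 fin_kL (nat_lit 6) (nat_lit 256) (nat_lit 16) (nat_lit 16) (nat_lit 63) i

def fin_a_g0 : List (List Nat) := [[nat_lit 0x200]]

def fin_aL : List (List (List Nat)) := [fin_a_g0]
noncomputable def fin_a (i : Nat) : Nat := look3 fin_aL (nat_lit 6) (nat_lit 256) (nat_lit 16) (nat_lit 16) (nat_lit 63) i

def fin_b_g0 : List (List Nat) := [[nat_lit 0x241]]

def fin_bL : List (List (List Nat)) := [fin_b_g0]
noncomputable def fin_b (i : Nat) : Nat := look3 fin_bL (nat_lit 6) (nat_lit 256) (nat_lit 16) (nat_lit 16) (nat_lit 63) i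

def fin_c_g0 : List (List Nat) := [[nat_lit 0x282]]

def fin_cL : List (List (List Nat)) := [fin_c_g0]
noncomputable def fin_c (i : Nat) : Nat := look3 fin_cL (nat_lit 6) (nat_lit 256) (nat_lit 16) (nat_lit 16) (nat_lit 63) i

def fin_d_g0 : List (List Nat) := [[nat_lit 0x2c3]]

def fin_dL : List (List (List Nat)) := [fin_d_g0]
noncomputable def fin_d (i : Nat) : Nat := look3 fin_dL (nat_lit 6) (nat_lit 256) (nat_lit 16) (nat_lit 16) (nat_lit 63) i

def fin_e_g0 : List (List Nat) := [[nat_lit 0x304]]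

def fin_eL : List (List (List Nat)) := [fin_e_g0]
noncomputable def fin_e (i : Nat) : Nat := look3 fin_eL (nat_lit 6) (nat_lit 256) (nat_lit 16) (nat_lit 16) (nat_lit 63) i

def fin_f_g0 : List (List Nat) := [[nat_lit 0x345]]

def fin_fL : List (List (List Nat)) := [fin_f_g0]
noncomputable def fin_f (i : Nat) : Nat := look3 fin_fL (nat_lit 6) (nat_lit 256) (nat_lit 16) (nat_lit 16) (nat_lit 63) i

def fin_g_g0 : List (List Nat) := [[nat_lit 0xa55]]

def fin_gL : List (List (List Nat)) := [fin_g_g0]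
noncomputable def fin_g (i : Nat) : Nat := look3 fin_gL (nat_lit 6) (nat_lit 256) (nat_lit 16) (nat_lit 16) (nat_lit 63) i

def fin_j_g0 : List (List Nat) := [[nat_lit 0xb59]]

def fin_jL : List (List (List Nat)) := [fin_j_g0]
noncomputable def fin_j (i : Nat) : Nat := look3 fin_jL (nat_lit 6) (nat_lit 256) (nat_lit 16) (nat_lit 16) (nat_lit 63) i

def fin_h_g0 : List (List Nat) := [[nat_lit 0xc5d]]

def fin_hL : List (List (List Nat)) := [fin_h_g0]
noncomputable def fin_h (i : Nat) : Nat := look3 fin_hL (nat_lit 6) (nat_lit 256) (nat_lit 16) (nat_lit 16) (nat_lit 63) i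

def fin_i_g0 : List (List Nat) := [[nat_lit 0xd61]]

def fin_iL : List (List (List Nat)) := [fin_i_g0]
noncomputable def fin_i (i : Nat) : Nat := look3 fin_iL (nat_lit 6) (nat_lit 256) (nat_lit 16) (nat_lit 16) (nat_lit 63) i

def key1_g0 : List (List Nat) := [[nat_lit 0x1622c1b5d8ac6d422c1a550a869222c194c8a465022c18440a060222c170b8845d600c065b02c19400c055282815200c044a02411000c03418200c200c020900408e2261128890446222110080004e006002801000600200]]

def key1L : List (List (List Nat)) := [key1_g0]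
noncomputable def key1 (i : Nat) : Nat := look3 key1L (nat_lit 13) (nat_lit 256) (nat_lit 16) (nat_lit 16) (nat_lit 8191) i

def cert1_g0 : List (List Nat) := [[nat_lit 0x1e7a4ea50262581282c095df84aa40242501182808dd7646a302224810824085cf442a20202400f82007dc723ea101e2080e81c075bf03aa501c2580d81806db6e36a401a2500c814065aec32a30182480b81005da6a2ea20162400a80c0559e82aa10142080980804ca20a05004d2782513811c9a0884c04120000004000d60006a000348001a0000ce00066000]]

def cert1L : List (List (List Nat)) := [cert1_g0]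
noncomputable def cert1 (i : Nat) : Nat := look3 cert1L (nat_lit 21) (nat_lit 256) (nat_lit 16) (nat_lit 16) (nat_lit 2097151) i

def st1_g0 : List (List Nat) := [[nat_lit 0x32caebaaaa69a289e79a69659248e3861471841c60c71821c60471801c6]]

def st1L : List (List (List Nat)) := [st1_g0]
noncomputable def st1 (i : Nat) : Nat := look3 st1L (nat_lit 6) (nat_lit 256) (nat_lit 16) (nat_lit 16) (nat_lit 63) i


end Cfsg.Agent.Lib.helper9.CE1698q3
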