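import Cfsg.Agent.Lib.helper9.CosetSimple
import Cfsg.Agent.Lib.helper9.CE1698qD
import Cfsg.Agent.Lib.helper9.CE1698qpT0

set_option autoImplicit false

namespace Cfsg.Agent.Lib.helper9.CE1698qp
open Cfsg.Agent.Lib.helper9 Cfsg.Agent.Lib.helper9.CE
open Cfsg.Spor.Fi24 (Gen)

noncomputable def lpcf0 (c k : Nat) : Nat := getD' [(fun _ => nat_lit 0), lpc0] (fun _ => nat_lit 0) c k
noncomputable def OL0 : OData where
  lab1 := llab0
  ot1 := lot0
  root1 := lroot0
  pc1 := lpcf0
  ow := nat_lit 15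
  omw := nat_lit 32767

def LW0 : List (Word Gen) := [
  [(Gen.l, true)],
  [(Gen.k, true)],
  [(Gen.a, true)],
  [(Gen.b, true)],
  [(Gen.c, true)],
  [(Gen.d, true)],
  [(Gen.e, true)],
  [(Gen.f, true)],
  [(Gen.h, true)],
  [(Gen.i, true)]]
noncomputable def lpcf1 (c k : Nat) : Nat := getD' [(fun _ => nat_lit 0), lpc1] (fun _ => nat_lit 0) c k
noncomputable def OL1 : OData where
  lab1 := llab1
  ot1 := lot1
  root1 := lroot1
  pc1 := lpcf1
  ow := nat_lit 15
  omw := nat_lit 32767

def LW1 : List (Word Gen) := [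
  [(Gen.l, true)],
  [(Gen.k, true)],
  [(Gen.a, true)],
  [(Gen.b, true)],
  [(Gen.c, true)],
  [(Gen.d, true)],
  [(Gen.e, true)],
  [(Gen.f, true)],
  [(Gen.h, true)],
  [(Gen.i, true), (Gen.h, true), (Gen.d, true), (Gen.c, true), (Gen.b, true), (Gen.a, true), (Gen.k, true), (Gen.l, true), (Gen.e, true), (Gen.d, true), (Gen.c, true), (Gen.b, true), (Gen.f, true), (Gen.e, true), (Gen.d, true), (Gen.h, true), (Gen.d, true), (Gen.c, true), (Gen.b, true), (Gen.a, true), (Gen.e, true), (Gen.d, true), (Gen.c, true), (Gen.h, true), (Gen.i, true), (Gen.h, true), (Gen.d, true), (Gen.c, true), (Gen.b, true), (Gen.e, true), (Gen.d, true), (Gen.c, true), (Gen.f, true), (Gen.e, true), (Gen.d, true), (Gen.h, true), (Gen.d, true), (Gen.c, true), (Gen.e, true), (Gen.d, true), (Gen.f, true), (Gen.k, true), (Gen.f, true), (Gen.d, true), (Gen.e, true), (Gen.c, true), (Gen.d, true), (Gen.h, true), (Gen.d, true), (Gen.e, true), (Gen.f, true), (Gen.c, true), (Gen.d, true), (Gen.e, true), (Gen.b, true),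 (Gen.c, true), (Gen.d, true), (Gen.h, true), (Gen.i, true), (Gen.b, true), (Gen.c, true), (Gen.d, true), (Gen.e, true), (Gen.a, true), (Gen.b, true), (Gen.c, true), (Gen.d, true), (Gen.h, true), (Gen.c, true), (Gen.d, true), (Gen.e, true), (Gen.f, true), (Gen.b, true), (Gen.c, true), (Gen.d, true), (Gen.e, true), (Gen.l, true), (Gen.k, true), (Gen.a, true), (Gen.b, true), (Gen.c, true), (Gen.d, true), (Gen.h, true), (Gen.i, true)],
  [(Gen.i, true), (Gen.h, true), (Gen.d, true), (Gen.c, true), (Gen.b, true), (Gen.a, true), (Gen.k, true), (Gen.l, true), (Gen.e, true), (Gen.d, true), (Gen.c, true), (Gen.b, true), (Gen.a, true), (Gen.f, true), (Gen.e, true), (Gen.d, true), (Gen.c, true), (Gen.h, true), (Gen.d, true), (Gen.c, true), (Gen.e, true), (Gen.d, true), (Gen.i, true), (Gen.h, true), (Gen.d, true), (Gen.c, true), (Gen.b, true), (Gen.a, true), (Gen.k, true), (Gen.l, true), (Gen.e, true), (Gen.d, true), (Gen.c, true), (Gen.f, true), (Gen.c, true), (Gen.d, true), (Gen.h, true), (Gen.e,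 true), (Gen.f, true), (Gen.d, true), (Gen.e, true), (Gen.c, true), (Gen.d, true), (Gen.h, true), (Gen.i, true), (Gen.a, true), (Gen.b, true), (Gen.c, true), (Gen.d, true), (Gen.h, true), (Gen.c, true), (Gen.d, true), (Gen.e, true), (Gen.f, true), (Gen.a, true), (Gen.b, true), (Gen.c, true), (Gen.d, true), (Gen.e, true), (Gen.k, true), (Gen.a, true), (Gen.b, true), (Gen.c, true), (Gen.d, true), (Gen.h, true), (Gen.i, true)],
  [(Gen.i, true), (Gen.h, true), (Gen.d, true), (Gen.c, true), (Gen.b, true), (Gen.a, true), (Gen.k, true), (Gen.l, true), (Gen.e, true), (Gen.d, true), (Gen.c, true), (Gen.b, true), (Gen.f, true), (Gen.e, true), (Gen.d, true), (Gen.h, true), (Gen.d, true), (Gen.c, true), (Gen.b, true), (Gen.e, true), (Gen.d, true), (Gen.c, true), (Gen.f, true), (Gen.e, true), (Gen.i, true), (Gen.h, true), (Gen.d, true), (Gen.c, true), (Gen.b, true), (Gen.a, true), (Gen.e, true), (Gen.d, true), (Gen.i, true), (Gen.d, true), (Gen.h, true), (Gen.e, true), (Gen.f, true), (Gen.d, true),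 (Gen.e, true), (Gen.c, true), (Gen.d, true), (Gen.h, true), (Gen.i, true), (Gen.f, true), (Gen.e, true), (Gen.a, true), (Gen.b, true), (Gen.c, true), (Gen.d, true), (Gen.h, true), (Gen.d, true), (Gen.e, true), (Gen.f, true), (Gen.c, true), (Gen.d, true), (Gen.e, true), (Gen.l, true), (Gen.k, true), (Gen.a, true), (Gen.b, true), (Gen.c, true), (Gen.d, true), (Gen.h, true), (Gen.i, true)],
  [(Gen.i, true), (Gen.h, true), (Gen.d, true), (Gen.c, true), (Gen.b, true), (Gen.a, true), (Gen.k, true), (Gen.l, true), (Gen.e, true), (Gen.d, true), (Gen.c, true), (Gen.b, true), (Gen.a, true), (Gen.f, true), (Gen.e, true), (Gen.d, true), (Gen.h, true), (Gen.d, true), (Gen.c, true), (Gen.b, true), (Gen.a, true), (Gen.e, true), (Gen.d, true), (Gen.i, true), (Gen.h, true), (Gen.d, true), (Gen.c, true), (Gen.b, true), (Gen.e, true), (Gen.d, true), (Gen.c, true), (Gen.f, true), (Gen.e, true), (Gen.d, true), (Gen.h, true), (Gen.d, true), (Gen.c, true), (Gen.e, true), (Gen.d, true), (Gen.l, true), (Gen.c,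 true), (Gen.d, true), (Gen.h, true), (Gen.d, true), (Gen.e, true), (Gen.f, true), (Gen.c, true), (Gen.d, true), (Gen.e, true), (Gen.k, true), (Gen.a, true), (Gen.b, true), (Gen.c, true), (Gen.d, true), (Gen.h, true), (Gen.i, true), (Gen.d, true), (Gen.e, true), (Gen.a, true), (Gen.b, true), (Gen.c, true), (Gen.d, true), (Gen.h, true), (Gen.d, true), (Gen.e, true), (Gen.f, true), (Gen.a, true), (Gen.b, true), (Gen.c, true), (Gen.d, true), (Gen.e, true), (Gen.k, true), (Gen.a, true), (Gen.b, true), (Gen.c, true), (Gen.d, true), (Gen.h, true), (Gen.i, true)],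
  [(Gen.i, true), (Gen.h, true), (Gen.d, true), (Gen.c, true), (Gen.b, true), (Gen.a, true), (Gen.k, true), (Gen.l, true), (Gen.e, true), (Gen.d, true), (Gen.c, true), (Gen.b, true), (Gen.f, true), (Gen.e, true), (Gen.d, true), (Gen.h, true), (Gen.d, true), (Gen.c, true), (Gen.b, true), (Gen.a, true), (Gen.k, true), (Gen.e, true), (Gen.d, true), (Gen.f, true), (Gen.i, true), (Gen.h, true), (Gen.d, true), (Gen.c, true), (Gen.b, true), (Gen.a, true), (Gen.e, true), (Gen.d, true), (Gen.c, true), (Gen.k, true), (Gen.h, true), (Gen.c, true), (Gen.d, true), (Gen.e, true), (Gen.a, true), (Gen.b, true), (Gen.c, true), (Gen.d, true), (Gen.h, true), (Gen.i, true), (Gen.d, true), (Gen.e, true), (Gen.l, true), (Gen.k, true), (Gen.a, true), (Gen.b, true), (Gen.c, true), (Gen.d, true), (Gen.h, true), (Gen.d, true), (Gen.e, true), (Gen.f, true), (Gen.b, true), (Gen.c, true), (Gen.d, true), (Gen.e, true), (Gen.l, true), (Gen.k, true), (Gen.a, true), (Gen.b, true), (Gen.c, true), (Gen.d, true), (Gen.h,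 true), (Gen.i, true)],
  [(Gen.i, true), (Gen.h, true), (Gen.d, true), (Gen.c, true), (Gen.b, true), (Gen.a, true), (Gen.k, true), (Gen.l, true), (Gen.e, true), (Gen.d, true), (Gen.c, true), (Gen.b, true), (Gen.f, true), (Gen.e, true), (Gen.d, true), (Gen.h, true), (Gen.d, true), (Gen.c, true), (Gen.b, true), (Gen.a, true), (Gen.k, true), (Gen.e, true), (Gen.d, true), (Gen.f, true), (Gen.e, true), (Gen.i, true), (Gen.h, true), (Gen.d, true), (Gen.c, true), (Gen.e, true), (Gen.l, true), (Gen.e, true), (Gen.c, true), (Gen.d, true), (Gen.h, true), (Gen.i, true), (Gen.c, true), (Gen.d, true), (Gen.e, true), (Gen.k, true), (Gen.a, true), (Gen.b, true), (Gen.c, true), (Gen.d, true), (Gen.h, true), (Gen.d, true), (Gen.e, true), (Gen.f, true), (Gen.a, true), (Gen.b, true), (Gen.c, true), (Gen.d, true), (Gen.e, true), (Gen.k, true), (Gen.a, true), (Gen.b, true), (Gen.c, true), (Gen.d, true), (Gen.h, true), (Gen.i, true)],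
  [(Gen.i, true), (Gen.h, true), (Gen.d, true), (Gen.c, true), (Gen.b, true), (Gen.a, true), (Gen.k, true), (Gen.l, true), (Gen.e, true), (Gen.d, true), (Gen.c, true), (Gen.b, true), (Gen.f, true), (Gen.e, true), (Gen.d, true), (Gen.h, true), (Gen.d, true), (Gen.c, true), (Gen.b, true), (Gen.e, true), (Gen.d, true), (Gen.c, true), (Gen.i, true), (Gen.h, true), (Gen.d, true), (Gen.c, true), (Gen.b, true), (Gen.a, true), (Gen.k, true), (Gen.e, true), (Gen.d, true), (Gen.c, true), (Gen.b, true), (Gen.f, true), (Gen.h, true), (Gen.i, true), (Gen.h, true), (Gen.d, true), (Gen.h, true), (Gen.f, true), (Gen.c, true), (Gen.d, true), (Gen.e, true), (Gen.a, true), (Gen.b, true), (Gen.c, true), (Gen.d, true), (Gen.h, true), (Gen.i, true), (Gen.c, true), (Gen.d, true), (Gen.e, true), (Gen.k, true), (Gen.a, true), (Gen.b, true), (Gen.c, true), (Gen.d, true), (Gen.h, true), (Gen.d, true), (Gen.e, true), (Gen.f, true), (Gen.c, true), (Gen.d, true), (Gen.e, true), (Gen.l, true), (Gen.k, true), (Gen.a,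 true), (Gen.b, true), (Gen.c, true), (Gen.d, true), (Gen.h, true), (Gen.i, true)],
  [(Gen.i, true), (Gen.h, true), (Gen.d, true), (Gen.c, true), (Gen.b, true), (Gen.a, true), (Gen.k, true), (Gen.e, true), (Gen.d, true), (Gen.c, true), (Gen.b, true), (Gen.a, true), (Gen.f, true), (Gen.e, true), (Gen.h, true), (Gen.d, true), (Gen.c, true), (Gen.b, true), (Gen.e, true), (Gen.i, true), (Gen.h, true), (Gen.d, true), (Gen.c, true), (Gen.b, true), (Gen.e, true), (Gen.d, true), (Gen.f, true), (Gen.e, true), (Gen.h, true), (Gen.d, true), (Gen.i, true), (Gen.h, true), (Gen.e, true), (Gen.f, true), (Gen.c, true), (Gen.d, true), (Gen.e, true), (Gen.b, true), (Gen.c, true), (Gen.d, true), (Gen.h, true), (Gen.i, true), (Gen.f, true), (Gen.d, true), (Gen.e, true), (Gen.c, true), (Gen.d, true), (Gen.h, true), (Gen.c, true), (Gen.d, true), (Gen.e, true), (Gen.f, true), (Gen.a, true), (Gen.b, true), (Gen.c, true), (Gen.d, true), (Gen.e, true), (Gen.k, true), (Gen.a, true), (Gen.b, true), (Gen.c, true),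 (Gen.d, true), (Gen.h, true), (Gen.i, true)],
  [(Gen.i, true), (Gen.h, true), (Gen.d, true), (Gen.c, true), (Gen.b, true), (Gen.a, true), (Gen.k, true), (Gen.l, true), (Gen.e, true), (Gen.d, true), (Gen.c, true), (Gen.b, true), (Gen.f, true), (Gen.e, true), (Gen.d, true), (Gen.c, true), (Gen.h, true), (Gen.d, true), (Gen.c, true), (Gen.b, true), (Gen.a, true), (Gen.e, true), (Gen.d, true), (Gen.c, true), (Gen.i, true), (Gen.h, true), (Gen.d, true), (Gen.c, true), (Gen.b, true), (Gen.a, true), (Gen.k, true), (Gen.e, true), (Gen.d, true), (Gen.c, true), (Gen.f, true), (Gen.e, true), (Gen.h, true), (Gen.d, true), (Gen.e, true), (Gen.f, true), (Gen.e, true), (Gen.d, true), (Gen.h, true), (Gen.e, true), (Gen.f, true), (Gen.c, true), (Gen.d, true), (Gen.e, true), (Gen.a, true), (Gen.b, true), (Gen.c, true), (Gen.d, true), (Gen.h, true), (Gen.i, true), (Gen.b, true), (Gen.c, true), (Gen.d, true), (Gen.e, true), (Gen.a, true), (Gen.b, true), (Gen.c, true), (Gen.d, true), (Gen.h, true), (Gen.d,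 true), (Gen.e, true), (Gen.f, true), (Gen.a, true), (Gen.b, true), (Gen.c, true), (Gen.d, true), (Gen.e, true), (Gen.k, true), (Gen.a, true), (Gen.b, true), (Gen.c, true), (Gen.d, true), (Gen.h, true), (Gen.i, true)],
  [(Gen.i, true), (Gen.h, true), (Gen.d, true), (Gen.c, true), (Gen.b, true), (Gen.a, true), (Gen.k, true), (Gen.e, true), (Gen.d, true), (Gen.c, true), (Gen.b, true), (Gen.f, true), (Gen.e, true), (Gen.d, true), (Gen.h, true), (Gen.d, true), (Gen.c, true), (Gen.e, true), (Gen.d, true), (Gen.f, true), (Gen.e, true), (Gen.i, true), (Gen.h, true), (Gen.d, true), (Gen.c, true), (Gen.e, true), (Gen.d, true), (Gen.f, true), (Gen.e, true), (Gen.h, true), (Gen.i, true), (Gen.h, true), (Gen.e, true), (Gen.f, true), (Gen.d, true), (Gen.e, true), (Gen.c, true), (Gen.d, true), (Gen.h, true), (Gen.i, true), (Gen.e, true), (Gen.f, true), (Gen.d, true), (Gen.e, true), (Gen.c, true), (Gen.d, true), (Gen.h, true), (Gen.d, true), (Gen.e, true), (Gen.f, true), (Gen.b, true), (Gen.c, true),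 (Gen.d, true), (Gen.e, true), (Gen.k, true), (Gen.a, true), (Gen.b, true), (Gen.c, true), (Gen.d, true), (Gen.h, true), (Gen.i, true)]]
noncomputable def lpcf2 (c k : Nat) : Nat := getD' [(fun _ => nat_lit 0), lpc2] (fun _ => nat_lit 0) c k
noncomputable def OL2 : OData where
  lab1 := llab2
  ot1 := lot2
  root1 := lroot2
  pc1 := lpcf2
  ow := nat_lit 15
  omw := nat_lit 32767

def LW2 : List (Word Gen) := [
  [(Gen.l, true)],
  [(Gen.k, true)],
  [(Gen.b, true)],
  [(Gen.c, true)],
  [(Gen.e, true)],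
  [(Gen.f, true)],
  [(Gen.h, true)],
  [(Gen.i, true), (Gen.h, true), (Gen.d, true), (Gen.c, true), (Gen.b, true), (Gen.a, true), (Gen.k, true), (Gen.l, true), (Gen.e, true), (Gen.d, true), (Gen.c, true), (Gen.b, true), (Gen.f, true), (Gen.e, true), (Gen.d, true), (Gen.h, true), (Gen.d, true), (Gen.c, true), (Gen.b, true), (Gen.a, true), (Gen.k, true), (Gen.e, true), (Gen.d, true), (Gen.f, true), (Gen.e, true), (Gen.i, true), (Gen.h, true), (Gen.d, true), (Gen.c, true), (Gen.e, true), (Gen.l, true), (Gen.e, true), (Gen.c, true), (Gen.d, true), (Gen.h, true), (Gen.i, true), (Gen.c, true), (Gen.d, true), (Gen.e, true), (Gen.k, true), (Gen.a, true), (Gen.b, true), (Gen.c, true), (Gen.d, true), (Gen.h, true), (Gen.d, true), (Gen.e, true), (Gen.f, true), (Gen.a, true), (Gen.b, true), (Gen.c, true), (Gen.d, true), (Gen.e, true), (Gen.k, true), (Gen.a, true), (Gen.b, true), (Gen.c, true), (Gen.d, true), (Gen.h, true), (Gen.i, true)],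
  [(Gen.i, true), (Gen.h, true), (Gen.d, true), (Gen.c, true), (Gen.b, true), (Gen.a, true), (Gen.k, true), (Gen.l, true), (Gen.e, true), (Gen.d, true), (Gen.c, true), (Gen.b, true), (Gen.a, true), (Gen.f, true), (Gen.e, true), (Gen.d, true), (Gen.c, true), (Gen.h, true), (Gen.d, true), (Gen.c, true), (Gen.e, true), (Gen.d, true), (Gen.i, true), (Gen.h, true), (Gen.d, true), (Gen.c, true), (Gen.b, true), (Gen.a, true), (Gen.k, true), (Gen.l, true), (Gen.e, true), (Gen.d, true), (Gen.c, true), (Gen.f, true), (Gen.c, true), (Gen.d, true), (Gen.h, true), (Gen.e, true), (Gen.f, true), (Gen.d, true), (Gen.e, true), (Gen.c, true), (Gen.d, true), (Gen.h, true), (Gen.i, true), (Gen.a, true), (Gen.b, true), (Gen.c, true), (Gen.d, true), (Gen.h, true), (Gen.c, true), (Gen.d, true), (Gen.e, true), (Gen.f, true), (Gen.a, true), (Gen.b, true), (Gen.c, true), (Gen.d, true), (Gen.e, true), (Gen.k, true), (Gen.a, true), (Gen.b, true), (Gen.c, true), (Gen.d, true), (Gen.h, true), (Gen.i, true)],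
  [(Gen.a, true), (Gen.k, true), (Gen.l, true), (Gen.d, true), (Gen.e, true), (Gen.h, true), (Gen.d, true), (Gen.i, true), (Gen.h, true), (Gen.d, true), (Gen.c, true), (Gen.b, true), (Gen.a, true), (Gen.k, true), (Gen.e, true), (Gen.d, true), (Gen.c, true), (Gen.b, true), (Gen.a, true), (Gen.f, true), (Gen.e, true), (Gen.h, true), (Gen.d, true), (Gen.c, true), (Gen.b, true), (Gen.e, true), (Gen.i, true), (Gen.h, true), (Gen.d, true), (Gen.c, true), (Gen.b, true), (Gen.e, true), (Gen.d, true), (Gen.f, true), (Gen.e, true), (Gen.h, true), (Gen.d, true), (Gen.i, true), (Gen.h, true), (Gen.e, true), (Gen.f, true), (Gen.c, true), (Gen.d, true), (Gen.e, true), (Gen.b, true), (Gen.c, true), (Gen.d, true), (Gen.h, true), (Gen.i, true), (Gen.f, true), (Gen.d, true), (Gen.e, true), (Gen.c, true), (Gen.d, true), (Gen.h, true), (Gen.c, true), (Gen.d, true), (Gen.e, true), (Gen.f, true), (Gen.a, true), (Gen.b, true), (Gen.c, true), (Gen.d, true), (Gen.e, true), (Gen.k, true), (Gen.a, true), (Gen.b,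 true), (Gen.c, true), (Gen.d, true), (Gen.h, true), (Gen.i, true)],
  [(Gen.a, true), (Gen.b, true), (Gen.c, true), (Gen.d, true), (Gen.c, true), (Gen.b, true), (Gen.a, true), (Gen.k, true), (Gen.l, true), (Gen.e, true), (Gen.f, true), (Gen.i, true), (Gen.h, true), (Gen.d, true), (Gen.c, true), (Gen.b, true), (Gen.a, true), (Gen.k, true), (Gen.l, true), (Gen.e, true), (Gen.d, true), (Gen.c, true), (Gen.b, true), (Gen.f, true), (Gen.e, true), (Gen.d, true), (Gen.h, true), (Gen.d, true), (Gen.c, true), (Gen.b, true), (Gen.a, true), (Gen.k, true), (Gen.e, true), (Gen.d, true), (Gen.f, true), (Gen.e, true), (Gen.i, true), (Gen.h, true), (Gen.d, true), (Gen.c, true), (Gen.e, true), (Gen.l, true), (Gen.e, true), (Gen.c, true), (Gen.d, true), (Gen.h, true), (Gen.i, true), (Gen.c, true), (Gen.d, true), (Gen.e, true), (Gen.k, true), (Gen.a, true), (Gen.b, true), (Gen.c, true), (Gen.d, true), (Gen.h, true), (Gen.d, true), (Gen.e, true), (Gen.f, true), (Gen.a, true), (Gen.b, true), (Gen.c, true),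 (Gen.d, true), (Gen.e, true), (Gen.k, true), (Gen.a, true), (Gen.b, true), (Gen.c, true), (Gen.d, true), (Gen.h, true), (Gen.i, true), (Gen.d, true)],
  [(Gen.a, true), (Gen.k, true), (Gen.l, true), (Gen.b, true), (Gen.a, true), (Gen.k, true), (Gen.d, true), (Gen.e, true), (Gen.f, true), (Gen.i, true), (Gen.h, true), (Gen.d, true), (Gen.c, true), (Gen.b, true), (Gen.a, true), (Gen.k, true), (Gen.l, true), (Gen.e, true), (Gen.d, true), (Gen.c, true), (Gen.b, true), (Gen.f, true), (Gen.e, true), (Gen.d, true), (Gen.h, true), (Gen.d, true), (Gen.c, true), (Gen.b, true), (Gen.e, true), (Gen.d, true), (Gen.c, true), (Gen.f, true), (Gen.e, true), (Gen.i, true), (Gen.h, true), (Gen.d, true), (Gen.c, true), (Gen.b, true), (Gen.a, true), (Gen.e, true), (Gen.d, true), (Gen.i, true), (Gen.d, true), (Gen.h, true), (Gen.e, true), (Gen.f, true), (Gen.d, true), (Gen.e, true), (Gen.c, true), (Gen.d, true), (Gen.h, true), (Gen.i, true), (Gen.f, true), (Gen.e, true), (Gen.a, true), (Gen.b, true), (Gen.c,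 true), (Gen.d, true), (Gen.h, true), (Gen.d, true), (Gen.e, true), (Gen.f, true), (Gen.c, true), (Gen.d, true), (Gen.e, true), (Gen.l, true), (Gen.k, true), (Gen.a, true), (Gen.b, true), (Gen.c, true), (Gen.d, true), (Gen.h, true), (Gen.i, true)],
  [(Gen.a, true), (Gen.k, true), (Gen.b, true), (Gen.c, true), (Gen.d, true), (Gen.c, true), (Gen.b, true), (Gen.e, true), (Gen.h, true), (Gen.d, true), (Gen.c, true), (Gen.b, true), (Gen.a, true), (Gen.e, true), (Gen.d, true), (Gen.f, true), (Gen.e, true), (Gen.h, true), (Gen.d, true), (Gen.c, true), (Gen.b, true), (Gen.i, true), (Gen.h, true), (Gen.d, true), (Gen.c, true), (Gen.b, true), (Gen.a, true), (Gen.k, true), (Gen.l, true), (Gen.e, true), (Gen.d, true), (Gen.c, true), (Gen.b, true), (Gen.f, true), (Gen.e, true), (Gen.d, true), (Gen.h, true), (Gen.d, true), (Gen.c, true), (Gen.b, true), (Gen.e, true), (Gen.d, true), (Gen.c, true), (Gen.i, true), (Gen.h, true), (Gen.d, true), (Gen.c, true), (Gen.b, true), (Gen.a, true), (Gen.k, true),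 (Gen.e, true), (Gen.d, true), (Gen.c, true), (Gen.b, true), (Gen.f, true), (Gen.h, true), (Gen.i, true), (Gen.h, true), (Gen.d, true), (Gen.h, true), (Gen.f, true), (Gen.c, true), (Gen.d, true), (Gen.e, true), (Gen.a, true), (Gen.b, true), (Gen.c, true), (Gen.d, true), (Gen.h, true), (Gen.i, true), (Gen.c, true), (Gen.d, true), (Gen.e, true), (Gen.k, true), (Gen.a, true), (Gen.b, true), (Gen.c, true), (Gen.d, true), (Gen.h, true), (Gen.d, true), (Gen.e, true), (Gen.f, true), (Gen.c, true), (Gen.d, true), (Gen.e, true), (Gen.l, true), (Gen.k, true), (Gen.a, true), (Gen.b, true), (Gen.c, true), (Gen.d, true), (Gen.h, true), (Gen.i, true), (Gen.f, true), (Gen.e, true), (Gen.d, true), (Gen.h, true), (Gen.a, true), (Gen.b, true), (Gen.c, true), (Gen.d, true), (Gen.b, true), (Gen.a, true)],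
  [(Gen.a, true), (Gen.k, true), (Gen.l, true), (Gen.b, true), (Gen.d, true), (Gen.c, true), (Gen.b, true), (Gen.a, true), (Gen.k, true), (Gen.e, true), (Gen.d, true), (Gen.c, true), (Gen.h, true), (Gen.d, true), (Gen.c, true), (Gen.b, true), (Gen.e, true), (Gen.d, true), (Gen.h, true), (Gen.i, true), (Gen.h, true), (Gen.d, true), (Gen.c, true), (Gen.b, true), (Gen.a, true), (Gen.k, true), (Gen.l, true), (Gen.e, true), (Gen.d, true), (Gen.c, true), (Gen.b, true), (Gen.a, true), (Gen.f, true), (Gen.e, true), (Gen.d, true), (Gen.h, true), (Gen.d, true), (Gen.c, true), (Gen.b, true), (Gen.a, true), (Gen.e, true), (Gen.d, true), (Gen.i, true), (Gen.h, true), (Gen.d, true), (Gen.c, true), (Gen.b, true), (Gen.e, true), (Gen.d, true), (Gen.c, true), (Gen.f, true), (Gen.e, true), (Gen.d, true), (Gen.h, true), (Gen.d, true), (Gen.c, true), (Gen.e, true), (Gen.d, true), (Gen.l, true), (Gen.c, true), (Gen.d, true), (Gen.h, true), (Gen.d, true), (Gen.e, true), (Gen.f, true), (Gen.c, true), (Gen.d,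 true), (Gen.e, true), (Gen.k, true), (Gen.a, true), (Gen.b, true), (Gen.c, true), (Gen.d, true), (Gen.h, true), (Gen.i, true), (Gen.d, true), (Gen.e, true), (Gen.a, true), (Gen.b, true), (Gen.c, true), (Gen.d, true), (Gen.h, true), (Gen.d, true), (Gen.e, true), (Gen.f, true), (Gen.a, true), (Gen.b, true), (Gen.c, true), (Gen.d, true), (Gen.e, true), (Gen.k, true), (Gen.a, true), (Gen.b, true), (Gen.c, true), (Gen.d, true), (Gen.h, true), (Gen.i, true), (Gen.e, true), (Gen.f, true), (Gen.d, true), (Gen.e, true), (Gen.c, true), (Gen.d, true), (Gen.h, true), (Gen.d, true), (Gen.e, true), (Gen.a, true), (Gen.b, true), (Gen.c, true), (Gen.d, true), (Gen.c, true), (Gen.b, true), (Gen.k, true), (Gen.a, true)],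
  [(Gen.a, true), (Gen.k, true), (Gen.b, true), (Gen.c, true), (Gen.d, true), (Gen.c, true), (Gen.b, true), (Gen.e, true), (Gen.d, true), (Gen.c, true), (Gen.f, true), (Gen.e, true), (Gen.h, true), (Gen.d, true), (Gen.c, true), (Gen.b, true), (Gen.e, true), (Gen.d, true), (Gen.c, true), (Gen.f, true), (Gen.e, true), (Gen.d, true), (Gen.i, true), (Gen.h, true), (Gen.d, true), (Gen.c, true), (Gen.b, true), (Gen.a, true), (Gen.k, true), (Gen.l, true), (Gen.e, true), (Gen.d, true), (Gen.c, true), (Gen.b, true), (Gen.f, true), (Gen.e, true), (Gen.d, true), (Gen.c, true), (Gen.h, true), (Gen.d, true), (Gen.c, true), (Gen.b, true), (Gen.a, true), (Gen.e, true), (Gen.d, true), (Gen.c, true), (Gen.i, true), (Gen.h, true), (Gen.d, true), (Gen.c, true), (Gen.b, true), (Gen.a, true), (Gen.k, true), (Gen.e, true), (Gen.d, true), (Gen.c, true), (Gen.f, true), (Gen.e, true), (Gen.h, true), (Gen.d, true), (Gen.e, true), (Gen.f, true), (Gen.e, true), (Gen.d, true), (Gen.h, true), (Gen.e, true), (Gen.f,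 true), (Gen.c, true), (Gen.d, true), (Gen.e, true), (Gen.a, true), (Gen.b, true), (Gen.c, true), (Gen.d, true), (Gen.h, true), (Gen.i, true), (Gen.b, true), (Gen.c, true), (Gen.d, true), (Gen.e, true), (Gen.a, true), (Gen.b, true), (Gen.c, true), (Gen.d, true), (Gen.h, true), (Gen.d, true), (Gen.e, true), (Gen.f, true), (Gen.a, true), (Gen.b, true), (Gen.c, true), (Gen.d, true), (Gen.e, true), (Gen.k, true), (Gen.a, true), (Gen.b, true), (Gen.c, true), (Gen.d, true), (Gen.h, true), (Gen.i, true), (Gen.d, true), (Gen.e, true), (Gen.f, true), (Gen.c, true), (Gen.d, true), (Gen.e, true), (Gen.b, true), (Gen.c, true), (Gen.d, true), (Gen.h, true), (Gen.f, true), (Gen.d, true), (Gen.e, true), (Gen.b, true), (Gen.c, true), (Gen.d, true), (Gen.c, true), (Gen.b, true), (Gen.a, true)],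
  [(Gen.a, true), (Gen.b, true), (Gen.c, true), (Gen.d, true), (Gen.c, true), (Gen.e, true), (Gen.d, true), (Gen.f, true), (Gen.e, true), (Gen.h, true), (Gen.d, true), (Gen.c, true), (Gen.b, true), (Gen.a, true), (Gen.k, true), (Gen.l, true), (Gen.e, true), (Gen.d, true), (Gen.c, true), (Gen.f, true), (Gen.e, true), (Gen.i, true), (Gen.h, true), (Gen.d, true), (Gen.c, true), (Gen.b, true), (Gen.a, true), (Gen.k, true), (Gen.l, true), (Gen.e, true), (Gen.d, true), (Gen.c, true), (Gen.b, true), (Gen.f, true), (Gen.e, true), (Gen.d, true), (Gen.h, true), (Gen.d, true), (Gen.c, true), (Gen.b, true), (Gen.e, true), (Gen.d, true), (Gen.c, true), (Gen.f, true), (Gen.e, true), (Gen.i, true), (Gen.h, true), (Gen.d, true), (Gen.c, true), (Gen.b, true), (Gen.a, true), (Gen.e, true), (Gen.d, true), (Gen.i, true), (Gen.d, true), (Gen.h, true), (Gen.e, true), (Gen.f, true), (Gen.d, true), (Gen.e, true), (Gen.c, true), (Gen.d, true), (Gen.h, true), (Gen.i, true), (Gen.f, true), (Gen.e, true), (Gen.a,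 true), (Gen.b, true), (Gen.c, true), (Gen.d, true), (Gen.h, true), (Gen.d, true), (Gen.e, true), (Gen.f, true), (Gen.c, true), (Gen.d, true), (Gen.e, true), (Gen.l, true), (Gen.k, true), (Gen.a, true), (Gen.b, true), (Gen.c, true), (Gen.d, true), (Gen.h, true), (Gen.i, true), (Gen.k, true), (Gen.a, true), (Gen.b, true), (Gen.c, true), (Gen.d, true), (Gen.h, true), (Gen.e, true), (Gen.f, true), (Gen.c, true), (Gen.d, true), (Gen.e, true), (Gen.a, true), (Gen.b, true), (Gen.c, true), (Gen.d, true), (Gen.h, true), (Gen.f, true), (Gen.d, true), (Gen.e, true), (Gen.k, true), (Gen.a, true), (Gen.b, true), (Gen.c, true), (Gen.d, true), (Gen.a, true), (Gen.b, true), (Gen.k, true), (Gen.a, true)],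
  [(Gen.a, true), (Gen.k, true), (Gen.l, true), (Gen.b, true), (Gen.c, true), (Gen.d, true), (Gen.c, true), (Gen.b, true), (Gen.a, true), (Gen.e, true), (Gen.f, true), (Gen.h, true), (Gen.d, true), (Gen.c, true), (Gen.e, true), (Gen.i, true), (Gen.h, true), (Gen.d, true), (Gen.c, true), (Gen.b, true), (Gen.a, true), (Gen.k, true), (Gen.l, true), (Gen.e, true), (Gen.d, true), (Gen.c, true), (Gen.b, true), (Gen.f, true), (Gen.e, true), (Gen.d, true), (Gen.h, true), (Gen.d, true), (Gen.c, true), (Gen.b, true), (Gen.a, true), (Gen.k, true), (Gen.e, true), (Gen.d, true), (Gen.f, true), (Gen.e, true), (Gen.i, true), (Gen.h, true), (Gen.d, true), (Gen.c, true), (Gen.e, true), (Gen.l, true), (Gen.e, true), (Gen.c, true), (Gen.d, true), (Gen.h, true), (Gen.i, true), (Gen.c, true), (Gen.d, true), (Gen.e, true), (Gen.k, true), (Gen.a, true), (Gen.b, true), (Gen.c, true), (Gen.d, true), (Gen.h, true), (Gen.d, true), (Gen.e, true), (Gen.f, true), (Gen.a, true), (Gen.b, true), (Gen.c, true), (Gen.d,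 true), (Gen.e, true), (Gen.k, true), (Gen.a, true), (Gen.b, true), (Gen.c, true), (Gen.d, true), (Gen.h, true), (Gen.i, true), (Gen.d, true), (Gen.h, true), (Gen.e, true), (Gen.l, true), (Gen.k, true), (Gen.a, true), (Gen.b, true), (Gen.c, true), (Gen.d, true), (Gen.c, true), (Gen.b, true), (Gen.k, true), (Gen.a, true)],
  [(Gen.a, true), (Gen.k, true), (Gen.l, true), (Gen.b, true), (Gen.a, true), (Gen.d, true), (Gen.c, true), (Gen.b, true), (Gen.a, true), (Gen.e, true), (Gen.d, true), (Gen.c, true), (Gen.b, true), (Gen.h, true), (Gen.d, true), (Gen.c, true), (Gen.b, true), (Gen.a, true), (Gen.k, true), (Gen.e, true), (Gen.d, true), (Gen.c, true), (Gen.b, true), (Gen.f, true), (Gen.e, true), (Gen.i, true), (Gen.h, true), (Gen.d, true), (Gen.c, true), (Gen.b, true), (Gen.a, true), (Gen.k, true), (Gen.e, true), (Gen.d, true), (Gen.c, true), (Gen.b, true), (Gen.a, true), (Gen.f, true), (Gen.e, true), (Gen.h, true), (Gen.d, true), (Gen.c, true), (Gen.b, true), (Gen.e, true), (Gen.i, true),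 (Gen.h, true), (Gen.d, true), (Gen.c, true), (Gen.b, true), (Gen.e, true), (Gen.d, true), (Gen.f, true), (Gen.e, true), (Gen.h, true), (Gen.d, true), (Gen.i, true), (Gen.h, true), (Gen.e, true), (Gen.f, true), (Gen.c, true), (Gen.d, true), (Gen.e, true), (Gen.b, true), (Gen.c, true), (Gen.d, true), (Gen.h, true), (Gen.i, true), (Gen.f, true), (Gen.d, true), (Gen.e, true), (Gen.c, true), (Gen.d, true), (Gen.h, true), (Gen.c, true), (Gen.d, true), (Gen.e, true), (Gen.f, true), (Gen.a, true), (Gen.b, true), (Gen.c, true), (Gen.d, true), (Gen.e, true), (Gen.k, true), (Gen.a, true), (Gen.b, true), (Gen.c, true), (Gen.d, true), (Gen.h, true), (Gen.i, true), (Gen.d, true), (Gen.h, true), (Gen.c, true), (Gen.d, true), (Gen.e, true), (Gen.f, true), (Gen.b, true), (Gen.c, true), (Gen.d, true), (Gen.e, true), (Gen.k, true), (Gen.a, true), (Gen.b, true), (Gen.c, true), (Gen.d, true), (Gen.h, true), (Gen.c, true), (Gen.d, true), (Gen.e, true), (Gen.a, true), (Gen.b, true), (Gen.c, true), (Gen.d,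 true), (Gen.a, true), (Gen.b, true), (Gen.k, true), (Gen.a, true)],
  [(Gen.a, true), (Gen.b, true), (Gen.d, true), (Gen.c, true), (Gen.b, true), (Gen.a, true), (Gen.k, true), (Gen.l, true), (Gen.h, true), (Gen.d, true), (Gen.c, true), (Gen.e, true), (Gen.f, true), (Gen.d, true), (Gen.f, true), (Gen.e, true), (Gen.b, true), (Gen.c, true), (Gen.d, true), (Gen.h, true), (Gen.f, true), (Gen.e, true), (Gen.c, true), (Gen.d, true), (Gen.b, true), (Gen.l, true), (Gen.k, true), (Gen.a, true)],
  [(Gen.a, true), (Gen.k, true), (Gen.b, true), (Gen.a, true), (Gen.d, true), (Gen.c, true), (Gen.b, true), (Gen.a, true), (Gen.k, true), (Gen.e, true), (Gen.d, true), (Gen.c, true), (Gen.h, true), (Gen.d, true), (Gen.c, true), (Gen.b, true), (Gen.a, true), (Gen.e, true), (Gen.d, true), (Gen.c, true), (Gen.f, true), (Gen.e, true), (Gen.d, true), (Gen.h, true), (Gen.d, true), (Gen.e, true), (Gen.i, true), (Gen.h, true), (Gen.d, true), (Gen.c, true), (Gen.b, true), (Gen.a, true), (Gen.k, true), (Gen.l,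 true), (Gen.e, true), (Gen.d, true), (Gen.c, true), (Gen.b, true), (Gen.a, true), (Gen.f, true), (Gen.e, true), (Gen.d, true), (Gen.h, true), (Gen.d, true), (Gen.c, true), (Gen.b, true), (Gen.a, true), (Gen.e, true), (Gen.d, true), (Gen.i, true), (Gen.h, true), (Gen.d, true), (Gen.c, true), (Gen.b, true), (Gen.e, true), (Gen.d, true), (Gen.c, true), (Gen.f, true), (Gen.e, true), (Gen.d, true), (Gen.h, true), (Gen.d, true), (Gen.c, true), (Gen.e, true), (Gen.d, true), (Gen.l, true), (Gen.c, true), (Gen.d, true), (Gen.h, true), (Gen.d, true), (Gen.e, true), (Gen.f, true), (Gen.c, true), (Gen.d, true), (Gen.e, true), (Gen.k, true), (Gen.a, true), (Gen.b, true), (Gen.c, true), (Gen.d, true), (Gen.h, true), (Gen.i, true), (Gen.d, true), (Gen.e, true), (Gen.a, true), (Gen.b, true), (Gen.c, true), (Gen.d, true), (Gen.h, true), (Gen.d, true), (Gen.e, true), (Gen.f, true), (Gen.a, true), (Gen.b, true), (Gen.c, true), (Gen.d, true), (Gen.e, true), (Gen.k, true), (Gen.a, true), (Gen.b, true),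 (Gen.c, true), (Gen.d, true), (Gen.h, true), (Gen.i, true), (Gen.d, true), (Gen.e, true), (Gen.f, true), (Gen.b, true), (Gen.c, true), (Gen.d, true), (Gen.e, true), (Gen.k, true), (Gen.a, true), (Gen.b, true), (Gen.c, true), (Gen.d, true), (Gen.h, true), (Gen.d, true), (Gen.e, true), (Gen.b, true), (Gen.c, true), (Gen.d, true), (Gen.c, true), (Gen.b, true), (Gen.k, true), (Gen.a, true)],
  [(Gen.a, true), (Gen.d, true), (Gen.c, true), (Gen.b, true), (Gen.e, true), (Gen.f, true), (Gen.h, true), (Gen.d, true), (Gen.e, true), (Gen.i, true), (Gen.h, true), (Gen.d, true), (Gen.c, true), (Gen.b, true), (Gen.a, true), (Gen.k, true), (Gen.l, true), (Gen.e, true), (Gen.d, true), (Gen.c, true), (Gen.b, true), (Gen.f, true), (Gen.e, true), (Gen.d, true), (Gen.h, true), (Gen.d, true), (Gen.c, true), (Gen.b, true), (Gen.e, true), (Gen.d, true), (Gen.c, true), (Gen.i, true), (Gen.h, true), (Gen.d, true), (Gen.c, true), (Gen.b, true), (Gen.a, true), (Gen.k, true), (Gen.e, true), (Gen.d, true), (Gen.c,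 true), (Gen.b, true), (Gen.f, true), (Gen.h, true), (Gen.i, true), (Gen.h, true), (Gen.d, true), (Gen.h, true), (Gen.f, true), (Gen.c, true), (Gen.d, true), (Gen.e, true), (Gen.a, true), (Gen.b, true), (Gen.c, true), (Gen.d, true), (Gen.h, true), (Gen.i, true), (Gen.c, true), (Gen.d, true), (Gen.e, true), (Gen.k, true), (Gen.a, true), (Gen.b, true), (Gen.c, true), (Gen.d, true), (Gen.h, true), (Gen.d, true), (Gen.e, true), (Gen.f, true), (Gen.c, true), (Gen.d, true), (Gen.e, true), (Gen.l, true), (Gen.k, true), (Gen.a, true), (Gen.b, true), (Gen.c, true), (Gen.d, true), (Gen.h, true), (Gen.i, true), (Gen.d, true), (Gen.e, true), (Gen.f, true), (Gen.c, true), (Gen.d, true), (Gen.e, true), (Gen.b, true), (Gen.c, true), (Gen.d, true), (Gen.h, true), (Gen.a, true), (Gen.b, true), (Gen.c, true), (Gen.d, true), (Gen.k, true), (Gen.a, true), (Gen.b, true), (Gen.l, true), (Gen.k, true), (Gen.a, true)],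
  [(Gen.a, true), (Gen.b, true), (Gen.c, true), (Gen.d, true), (Gen.c, true), (Gen.b, true), (Gen.e, true), (Gen.d, true), (Gen.h, true), (Gen.d, true), (Gen.c, true), (Gen.b, true), (Gen.e, true), (Gen.d, true), (Gen.c, true), (Gen.f, true), (Gen.e, true), (Gen.d, true), (Gen.i, true), (Gen.h, true), (Gen.d, true), (Gen.c, true), (Gen.b, true), (Gen.a, true), (Gen.k, true), (Gen.l, true), (Gen.e, true), (Gen.d, true), (Gen.c, true), (Gen.b, true), (Gen.f, true), (Gen.e, true), (Gen.d, true), (Gen.h, true), (Gen.d, true), (Gen.c, true), (Gen.b, true), (Gen.e, true), (Gen.d, true), (Gen.c, true), (Gen.i, true), (Gen.h, true), (Gen.d, true), (Gen.c, true), (Gen.b, true), (Gen.a, true), (Gen.k, true), (Gen.e, true), (Gen.d, true), (Gen.c, true), (Gen.b, true), (Gen.f, true), (Gen.h, true), (Gen.i, true), (Gen.h, true), (Gen.d, true), (Gen.h, true), (Gen.f, true), (Gen.c, true), (Gen.d, true), (Gen.e, true), (Gen.a, true), (Gen.b, true), (Gen.c, true), (Gen.d, true), (Gen.h, true), (Gen.i,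 true), (Gen.c, true), (Gen.d, true), (Gen.e, true), (Gen.k, true), (Gen.a, true), (Gen.b, true), (Gen.c, true), (Gen.d, true), (Gen.h, true), (Gen.d, true), (Gen.e, true), (Gen.f, true), (Gen.c, true), (Gen.d, true), (Gen.e, true), (Gen.l, true), (Gen.k, true), (Gen.a, true), (Gen.b, true), (Gen.c, true), (Gen.d, true), (Gen.h, true), (Gen.i, true), (Gen.h, true), (Gen.k, true), (Gen.a, true), (Gen.b, true), (Gen.c, true), (Gen.d, true), (Gen.c, true), (Gen.b, true), (Gen.k, true), (Gen.a, true)]]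
noncomputable def lpcf3 (c k : Nat) : Nat := getD' [(fun _ => nat_lit 0), lpc3] (fun _ => nat_lit 0) c k
noncomputable def OL3 : OData where
  lab1 := llab3
  ot1 := lot3
  root1 := lroot3
  pc1 := lpcf3
  ow := nat_lit 15
  omw := nat_lit 32767

def LW3 : List (Word Gen) := [
  [(Gen.l, true)]]
def SPw : Word Gen := [(Gen.d, true), (Gen.c, true), (Gen.b, true), (Gen.d, true), (Gen.e, true), (Gen.f, true), (Gen.d, true), (Gen.h, true), (Gen.i, true), (Gen.d, true), (Gen.c, true), (Gen.b, true), (Gen.d, true), (Gen.e, true), (Gen.f, true), (Gen.d, true), (Gen.h, true), (Gen.i, true), (Gen.d, true), (Gen.c, true), (Gen.b, true), (Gen.d, true), (Gen.e, true), (Gen.f, true), (Gen.d, true), (Gen.h, true), (Gen.i, true), (Gen.d, true), (Gen.c, true), (Gen.b, true), (Gen.d, true), (Gen.e, true), (Gen.f, true), (Gen.d, true), (Gen.h, true), (Gen.i, true), (Gen.d, true), (Gen.c, true), (Gen.b, true), (Gen.d, true), (Gen.e, true), (Gen.f, true), (Gen.d, true), (Gen.h, true), (Gen.i, true), (Gen.d,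 true), (Gen.c, true), (Gen.b, true), (Gen.d, true), (Gen.e, true), (Gen.f, true), (Gen.d, true), (Gen.h, true), (Gen.i, true), (Gen.d, true), (Gen.c, true), (Gen.b, true), (Gen.d, true), (Gen.e, true), (Gen.f, true), (Gen.d, true), (Gen.h, true), (Gen.i, true), (Gen.d, true), (Gen.c, true), (Gen.b, true), (Gen.d, true), (Gen.e, true), (Gen.f, true), (Gen.d, true), (Gen.h, true), (Gen.i, true), (Gen.d, true), (Gen.c, true), (Gen.b, true), (Gen.d, true), (Gen.e, true), (Gen.f, true), (Gen.d, true), (Gen.h, true), (Gen.i, true), (Gen.d, true), (Gen.c, true), (Gen.b, true), (Gen.d, true), (Gen.e, true), (Gen.f, true), (Gen.d, true), (Gen.h, true), (Gen.i, true)]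

end Cfsg.Agent.Lib.helper9.CE1698qp
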