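import Mathlib
import Cfsg.Prelude.Def_Spor_Fi23
import Cfsg.Agent.Lib.helper9.CosetSimple
import Cfsg.Agent.Lib.helper4.SpCard

/-! The field with four elements, matrices of degree four over it given by their entries, and their
action on the vectors, coded as numbers below 256: products of the generator matrices along words
are followed on the four basis vectors. -/

set_option autoImplicit false

namespace Cfsg.Agent.Lib.helper9.SP

open Cfsg.Agent.Lib.helper9.CE
open Cfsg.Spor.Fi23 (Gen)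

/-- the field with four elements, `F₂[w]` with `w² = w + 1`; `⟨a, b⟩` is `a + b w` -/
structure F4 where
  re : Bool
  im : Bool
  deriving DecidableEq

namespace F4

instance instFintype : Fintype F4 where
  elems := ⟨(([⟨false, false⟩, ⟨true, false⟩, ⟨false, true⟩, ⟨true, true⟩] : List F4) :
    Multiset F4), by decide⟩
  complete := by rintro ⟨a | a, b | b⟩ <;> decide

instance instAdd : Add F4 := ⟨fun x y => ⟨xor x.re y.re, xor x.im y.im⟩⟩
instance instMul : Mul F4 :=
  ⟨fun x y => ⟨xor (x.re && y.re) (x.im && y.im),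
    xor (xor (x.re && y.im) (x.im && y.re)) (x.im && y.im)⟩⟩
instance instNeg : Neg F4 := ⟨fun x => x⟩
instance instZero : Zero F4 := ⟨⟨false, false⟩⟩
instance instOne : One F4 := ⟨⟨true, false⟩⟩

instance instCommRing : CommRing F4 :=
  CommRing.ofMinimalAxioms (by decide) (by decide) (by decide) (by decide) (by decide) (by decide)
    (by decide)

instance instInv : Inv F4 := ⟨fun x => x * x⟩

instance instField : Field F4 where
  exists_pair_ne := ⟨0, 1, by decide⟩
  mul_inv_cancel := by decide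
  inv_zero := by decide
  nnqsmul := _
  nnqsmul_def := fun _ _ => rfl
  qsmul := _
  qsmul_def := fun _ _ => rfl

theorem card : Fintype.card F4 = 4 := by decide

end F4

/-- the index set -/
abbrev I4 : Type := Fin 2 ⊕ Fin 2

/-- the position of an index -/
def pos : I4 → Nat
  | Sum.inl i => i.val
  | Sum.inr j => 2 + j.val

/-- the element of the field with a given code -/
def f4 (k : Nat) : F4 := ⟨k.testBit 0, k.testBit 1⟩

/-- the vector with a given code -/
def vdec (c : Nat) : I4 → F4 := fun i => f4 (c >>> (2 * pos i))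

/-- the matrix with given codes of the entries -/
def mat (L : List Nat) : Matrix I4 I4 F4 := Matrix.of fun i j => f4 (L.getD (4 * pos i + pos j) 0)

/-- the entries of the matrices of the generators -/
def gm : Gen → List Nat
  | .a => [1, 0, 0, 0, 0, 1, 0, 1, 0, 0, 1, 0, 0, 0, 0, 1]
  | .b => [1, 0, 1, 0, 0, 1, 0, 1, 0, 0, 1, 0, 0, 0, 0, 1]
  | .c => [0, 0, 3, 2, 0, 0, 2, 2, 1, 1, 0, 0, 1, 2, 0, 0]
  | .d => [1, 0, 2, 0, 0, 1, 0, 1, 0, 0, 1, 0, 0, 0, 0, 1]
  | _ => [1, 0, 0, 0, 0, 1, 0, 0, 0, 0, 1, 0, 0, 0, 0, 1]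

/-- the tables of the actions of the generators on the codes of the vectors -/
noncomputable def tab : Gen → Nat
  | .a => 0xf3f2f1f0f7f6f5f4fbfaf9f8fffefdfce3e2e1e0e7e6e5e4ebeae9e8efeeedecd3d2d1d0d7d6d5d4dbdad9d8dfdedddcc3c2c1c0c7c6c5c4cbcac9c8cfcecdccb7b6b5b4b3b2b1b0bfbebdbcbbbab9b8a7a6a5a4a3a2a1a0afaeadacabaaa9a897969594939291909f9e9d9c9b9a999887868584838281808f8e8d8c8b8a89887b7a79787f7e7d7c73727170777675746b6a69686f6e6d6c63626160676665645b5a59585f5e5d5c53525150575655544b4a49484f4e4d4c43424140474645443f3e3d3c3b3a393837363534333231302f2e2d2c2b2a292827262524232221201f1e1d1c1b1a191817161514131211100f0e0d0c0b0a09080706050403020100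
  | .b => 0xf0f1f2f3f4f5f6f7f8f9fafbfcfdfeffe1e0e3e2e5e4e7e6e9e8ebeaedecefeed2d3d0d1d6d7d4d5dadbd8d9dedfdcddc3c2c1c0c7c6c5c4cbcac9c8cfcecdccb4b5b6b7b0b1b2b3bcbdbebfb8b9babba5a4a7a6a1a0a3a2adacafaea9a8abaa96979495929390919e9f9c9d9a9b989987868584838281808f8e8d8c8b8a898878797a7b7c7d7e7f707172737475767769686b6a6d6c6f6e61606362656467665a5b58595e5f5c5d52535051565754554b4a49484f4e4d4c43424140474645443c3d3e3f38393a3b34353637303132332d2c2f2e29282b2a25242726212023221e1f1c1d1a1b181916171415121310110f0e0d0c0b0a09080706050403020100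
  | .c => 0x83d323731343b3e36333c393f3a3530388d828781848b8e86838c898f8a858088ede2e7e1e4ebeee6e3ece9efeae5e0e85d525751545b5e56535c595f5a5550589d929791949b9e96939c999f9a9590982d222721242b2e26232c292f2a2520284d424741444b4e46434c494f4a454048fdf2f7f1f4fbfef6f3fcf9fffaf5f0f8cdc2c7c1c4cbcec6c3ccc9cfcac5c0c87d727771747b7e76737c797f7a7570781d121711141b1e16131c191f1a151018ada2a7a1a4abaea6a3aca9afaaa5a0a86d626761646b6e66636c696f6a656068ddd2d7d1d4dbded6d3dcd9dfdad5d0d8bdb2b7b1b4bbbeb6b3bcb9bfbab5b0b80d020701040b0e06030c090f0a05000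
  | .d => 0xf2f3f0f1f6f7f4f5fafbf8f9fefffcfde0e1e2e3e4e5e6e7e8e9eaebecedeeefd1d0d3d2d5d4d7d6d9d8dbdadddcdfdec3c2c1c0c7c6c5c4cbcac9c8cfcecdccb6b7b4b5b2b3b0b1bebfbcbdbabbb8b9a4a5a6a7a0a1a2a3acadaeafa8a9aaab95949796919093929d9c9f9e99989b9a87868584838281808f8e8d8c8b8a89887a7b78797e7f7c7d727370717677747568696a6b6c6d6e6f606162636465666759585b5a5d5c5f5e51505352555457564b4a49484f4e4d4c43424140474645443e3f3c3d3a3b383936373435323330312c2d2e2f28292a2b24252627202122231d1c1f1e19181b1a15141716111013120f0e0d0c0b0a09080706050403020100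
  | _ => 0xfffefdfcfbfaf9f8f7f6f5f4f3f2f1f0efeeedecebeae9e8e7e6e5e4e3e2e1e0dfdedddcdbdad9d8d7d6d5d4d3d2d1d0cfcecdcccbcac9c8c7c6c5c4c3c2c1c0bfbebdbcbbbab9b8b7b6b5b4b3b2b1b0afaeadacabaaa9a8a7a6a5a4a3a2a1a09f9e9d9c9b9a999897969594939291908f8e8d8c8b8a898887868584838281807f7e7d7c7b7a797877767574737271706f6e6d6c6b6a696867666564636261605f5e5d5c5b5a595857565554535251504f4e4d4c4b4a494847464544434241403f3e3d3c3b3a393837363534333231302f2e2d2c2b2a292827262524232221201f1e1d1c1b1a191817161514131211100f0e0d0c0b0a09080706050403020100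

/-- the action of a generator on the code of a vector -/
noncomputable def vstep (x : Gen) (c : Nat) : Nat := (tab x >>> (8 * c)) &&& 255

/-- a matrix times a vector, written out -/
def mv4 (M : Matrix I4 I4 F4) (v : I4 → F4) : I4 → F4 := fun i =>
  M i (Sum.inl 0) * v (Sum.inl 0) + M i (Sum.inl 1) * v (Sum.inl 1) +
    (M i (Sum.inr 0) * v (Sum.inr 0) + M i (Sum.inr 1) * v (Sum.inr 1))

theorem mulVec_eq (M : Matrix I4 I4 F4) (v : I4 → F4) : M.mulVec v = mv4 M v := by
  funext i
  simp only [Matrix.mulVec, dotProduct, mv4, Fintype.sum_sum_type, Fin.sum_univ_two]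

/-- the indices -/
def idxL : List I4 := [Sum.inl 0, Sum.inl 1, Sum.inr 0, Sum.inr 1]

theorem mem_idxL : ∀ i : I4, i ∈ idxL := by
  intro i
  rcases i with i | i <;> fin_cases i <;> simp [idxL]

/-- the table of a generator agrees with its matrix -/
noncomputable def tabOK (x : Gen) : Bool :=
  (List.range 256).all fun c => Nat.blt (vstep x c) 256 &&
    idxL.all fun i => decide (vdec (vstep x c) i = mv4 (mat (gm x)) (vdec c) i)

theorem htab : ∀ x : Gen, tabOK x = true := by
  intro x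
  cases x <;> decide +kernel

theorem tab_spec (x : Gen) (c : Nat) (hc : c < 256) :
    vstep x c < 256 ∧ vdec (vstep x c) = (mat (gm x)).mulVec (vdec c) := by
  have h := List.all_eq_true.mp (htab x) c (List.mem_range.mpr hc)
  rw [Bool.and_eq_true] at h
  refine ⟨Nat.ble_eq.mp h.1, ?_⟩
  rw [mulVec_eq]
  funext i
  exact of_decide_eq_true (List.all_eq_true.mp h.2 i (mem_idxL i))

/-- the walk of the code of a vector along a word -/
noncomputable def vwalk : Word Gen → Nat → Nat
  | [], c => c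
  | l :: L, c => vstep l.1 (vwalk L c)

/-- the product of the matrices of the letters of a word (their signs are ignored: the matrices are
involutions) -/
def evalM : Word Gen → Matrix I4 I4 F4
  | [] => 1
  | l :: L => mat (gm l.1) * evalM L

theorem vwalk_spec : ∀ (L : Word Gen) (c : Nat), c < 256 →
    vwalk L c < 256 ∧ vdec (vwalk L c) = (evalM L).mulVec (vdec c)
  | [], c, hc => ⟨hc, by rw [evalM, Matrix.one_mulVec]; rfl⟩
  | l :: L, c, hc => by
    obtain ⟨h1, h2⟩ := vwalk_spec L c hc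
    obtain ⟨h3, h4⟩ := tab_spec l.1 (vwalk L c) h1
    refine ⟨h3, ?_⟩
    show vdec (vstep l.1 (vwalk L c)) = (mat (gm l.1) * evalM L).mulVec (vdec c)
    rw [h4, h2, Matrix.mulVec_mulVec]

theorem vdec_basis : ∀ j : I4, vdec (4 ^ pos j) = Pi.single j 1 := by decide +kernel

theorem eq_one_of_fix (P : Matrix I4 I4 F4) (h : ∀ j : I4, P.mulVec (Pi.single j 1) = Pi.single j 1) :
    P = 1 := by
  ext i j
  have h1 := congrFun (h j) i
  rw [Matrix.mulVec_single_one] at h1
  rw [Matrix.one_apply]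
  rw [Pi.single_apply] at h1
  exact h1

/-- the basis vectors return along the words of a list -/
noncomputable def relsVK (Ls : List (Word Gen)) : Bool :=
  Ls.all fun L => [1, 4, 16, 64].all fun b => Nat.beq (vwalk L b) b

theorem evalM_eq_one_of_walk (L : Word Gen) (h : ∀ b ∈ [1, 4, 16, 64], vwalk L b = b) :
    evalM L = 1 := by
  apply eq_one_of_fix
  intro j
  have hm : 4 ^ pos j ∈ [1, 4, 16, 64] := by revert j; decide
  have hlt : 4 ^ pos j < 256 := by revert j; decide
  have h3 := (vwalk_spec L (4 ^ pos j) hlt).2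
  rw [h _ hm, vdec_basis] at h3
  exact h3.symm

theorem relsVK_spec {Ls : List (Word Gen)} (h : relsVK Ls = true) : ∀ L ∈ Ls, evalM L = 1 := by
  intro L hL
  apply evalM_eq_one_of_walk
  intro b hb
  exact Nat.eq_of_beq_eq_true (List.all_eq_true.mp (List.all_eq_true.mp h L hL) b hb)

theorem hmem : ∀ x : Gen, mat (gm x) ∈ Matrix.symplecticGroup (Fin 2) F4 := by
  intro x
  rw [SymplecticGroup.mem_iff]
  cases x <;> decide +kernel

/-- the symplectic matrices of the generators -/
def sg (x : Gen) : Matrix.symplecticGroup (Fin 2) F4 := ⟨mat (gm x), hmem x⟩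

theorem hsqW : ∀ x : Gen, ∀ b ∈ [1, 4, 16, 64], vwalk [(x, true), (x, true)] b = b := by
  intro x
  cases x <;> decide +kernel

theorem hsq (x : Gen) : sg x * sg x = 1 := by
  apply Subtype.ext
  have h := evalM_eq_one_of_walk [(x, true), (x, true)] (hsqW x)
  simp only [evalM, mul_one] at h
  exact h

theorem lift_val : ∀ L : Word Gen,
    ((FreeGroup.lift sg (FreeGroup.mk L) : Matrix.symplecticGroup (Fin 2) F4) : Matrix I4 I4 F4) =
      evalM L
  | [] => rfl
  | (x, b) :: L => by
    have h1 : (FreeGroup.mk ((x, b) :: L) : FreeGroup Gen) =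
        FreeGroup.mk [(x, b)] * FreeGroup.mk L := rfl
    have h2 : FreeGroup.lift sg (FreeGroup.mk [(x, b)]) = sg x := by
      rw [FreeGroup.lift_mk]
      cases b
      · simp only [List.map_cons, List.map_nil, List.prod_cons, List.prod_nil, mul_one, cond_false]
        exact inv_eq_of_mul_eq_one_right (hsq x)
      · simp
    rw [h1, map_mul, h2]
    show mat (gm x) * ((FreeGroup.lift sg (FreeGroup.mk L) : Matrix.symplecticGroup (Fin 2) F4) :
      Matrix I4 I4 F4) = mat (gm x) * evalM L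
    rw [lift_val L]

theorem card_sp4 : Nat.card (Matrix.symplecticGroup (Fin 2) F4) = 979200 := by
  rw [Cfsg.Agent.Lib.helper4.card_sp F4.card 2]
  decide

end Cfsg.Agent.Lib.helper9.SP
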