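import Mathlib
import Cfsg.Prelude.Def_Classical
import Cfsg.Prelude.Def_Spor_Fi23
import Cfsg.Agent.Lib.helper9.Sp4F4

/-! Unitary matrices of degree nine over the field with four elements, given by their entries, and
their action on the vectors, coded as numbers with two bits for a coordinate: products of the
generator matrices along words are followed on the nine basis vectors. -/

set_option autoImplicit false

namespace Cfsg.Agent.Lib.helper9.J3M

open Cfsg.Agent.Lib.helper9.CE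
open Cfsg.Agent.Lib.helper9.SP (F4 f4)
open Cfsg.Spor.Fi23 (Gen)

/-- the vectors -/
abbrev V9 : Type := Fin 9 → F4

/-- the vector of a bit: the basis vector `j / 2`, times the generator of the field for odd `j` -/
def bvec (j : Nat) : V9 := fun i => if i.val = j / 2 then f4 (1 + j % 2) else 0

/-- the vector with a given code -/
def vdec (c : Nat) : V9 := ∑ j ∈ Finset.range 18, if c.testBit j then bvec j else 0

theorem F4_add_self : ∀ x : F4, x + x = 0 := by decide

theorem F4_sq_one : ∀ a : F4, a * a = 1 → a = 1 := by decide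

theorem vdec_xor (a b : Nat) : vdec (a ^^^ b) = vdec a + vdec b := by
  unfold vdec
  rw [← Finset.sum_add_distrib]
  apply Finset.sum_congr rfl
  intro j _
  rw [Nat.testBit_xor]
  cases ha : a.testBit j <;> cases hb : b.testBit j
  · simp
  · simp
  · simp
  · have h : bvec j + bvec j = 0 := by
      funext i
      exact F4_add_self _
    simp [h]

theorem vdec_zero : vdec 0 = 0 := by
  unfold vdec
  apply Finset.sum_eq_zero
  intro j _
  simp

/-- the sum of the numbers of a list at the bits of a number -/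
noncomputable def go (v : Nat) : List Nat → Nat → Nat → Nat
  | [], _, acc => acc
  | r :: rs, k, acc => go v rs (k + 1) (cond (v.testBit k) (acc ^^^ r) acc)

theorem go_vdec (v : Nat) : ∀ (L : List Nat) (k acc : Nat),
    vdec (go v L k acc) = vdec acc +
      ∑ i ∈ Finset.range L.length, if v.testBit (k + i) then vdec (L.getD i 0) else 0
  | [], k, acc => by simp [go]
  | r :: rs, k, acc => by
    have h1 : vdec (cond (v.testBit k) (acc ^^^ r) acc) =
        vdec acc + (if v.testBit k then vdec r else 0) := by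
      cases h : v.testBit k
      · simp
      · simp [vdec_xor]
    have h2 : ∀ i, k + 1 + i = k + (i + 1) := fun i => by omega
    rw [go, go_vdec v rs (k + 1), List.length_cons, Finset.sum_range_succ', h1]
    simp only [List.getD_cons_succ, List.getD_cons_zero, Nat.add_zero, h2]
    abel

/-- the matrix with given codes of the entries -/
def mat (L : List Nat) : Matrix (Fin 9) (Fin 9) F4 :=
  Matrix.of fun i j => f4 (L.getD (9 * i.val + j.val) 0)

/-- the entries of the matrices of the generators -/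
def gm : Gen → List Nat
  | .a => [1, 3, 2, 1, 1, 3, 2, 2, 3, 2, 1, 2, 0, 3, 3, 3, 2, 0, 3, 3, 1, 3, 0, 3, 2, 0, 1, 1, 0, 2, 1, 2, 2, 1, 0, 2, 1, 2, 0, 3, 0, 0, 3, 0, 2, 2, 2, 2, 3, 0, 0, 3, 1, 1, 3, 2, 3, 1, 2, 2, 0, 3, 0, 3, 3, 0, 0, 0, 1, 2, 0, 3, 2, 0, 1, 3, 3, 1, 0, 2, 1]
  | .b => [1, 1, 1, 0, 2, 2, 0, 3, 3, 1, 1, 1, 3, 0, 1, 2, 0, 1, 1, 1, 1, 3, 2, 3, 2, 3, 2, 0, 2, 2, 1, 1, 0, 2, 1, 3, 3, 0, 3, 1, 1, 0, 1, 3, 1, 3, 1, 2, 0, 0, 1, 3, 1, 3, 0, 3, 3, 3, 1, 2, 1, 1, 0, 2, 0, 2, 1, 2, 1, 1, 1, 0, 2, 1, 3, 2, 1, 2, 0, 0, 1]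
  | .c => [0, 2, 2, 0, 0, 2, 2, 0, 2, 3, 1, 1, 0, 2, 1, 0, 3, 1, 3, 1, 0, 3, 1, 1, 2, 0, 2, 0, 0, 2, 0, 2, 2, 1, 0, 1, 0, 3, 1, 3, 1, 1, 0, 2, 3, 3, 1, 1, 3, 1, 0, 2, 0, 2, 3, 0, 3, 1, 0, 3, 0, 3, 0, 0, 2, 0, 0, 3, 0, 2, 0, 0, 3, 1, 3, 1, 2, 3, 0, 0, 1]
  | .d => [0, 3, 3, 1, 0, 3, 1, 3, 2, 2, 1, 2, 1, 2, 2, 1, 3, 1, 2, 3, 1, 1, 1, 2, 0, 0, 2, 1, 1, 1, 0, 3, 2, 0, 3, 3, 0, 3, 1, 2, 1, 3, 0, 3, 2, 2, 3, 3, 3, 2, 0, 1, 0, 3, 1, 1, 0, 0, 0, 1, 0, 1, 3, 2, 2, 0, 2, 2, 0, 1, 1, 3, 3, 1, 3, 2, 3, 2, 2, 2, 1]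
  | .e => [0, 2, 1, 3, 2, 0, 1, 2, 2, 3, 0, 3, 2, 1, 0, 3, 1, 1, 1, 2, 1, 1, 1, 0, 2, 1, 0, 2, 3, 1, 1, 1, 1, 2, 0, 0, 3, 1, 1, 1, 1, 1, 0, 1, 0, 0, 0, 0, 1, 1, 0, 0, 0, 2, 1, 2, 3, 3, 0, 0, 0, 0, 1, 3, 1, 1, 0, 1, 0, 0, 0, 2, 3, 1, 0, 0, 0, 3, 1, 3, 0]
  | .f => [0, 2, 2, 0, 1, 1, 0, 1, 0, 3, 0, 2, 3, 1, 2, 1, 2, 0, 3, 3, 1, 3, 1, 1, 2, 1, 3, 0, 2, 2, 1, 0, 3, 3, 3, 3, 1, 1, 1, 0, 1, 0, 3, 1, 2, 1, 3, 1, 2, 0, 1, 1, 0, 2, 0, 1, 3, 2, 2, 1, 1, 2, 0, 1, 3, 1, 2, 1, 0, 3, 0, 1, 0, 0, 2, 2, 3, 3, 0, 1, 0]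
  | .g => [1, 2, 1, 2, 0, 1, 3, 0, 2, 3, 1, 2, 2, 1, 3, 3, 3, 2, 1, 3, 0, 1, 0, 2, 2, 2, 2, 3, 3, 1, 1, 2, 3, 3, 3, 2, 0, 1, 0, 3, 1, 3, 3, 3, 1, 1, 2, 3, 2, 2, 1, 0, 0, 1, 2, 2, 3, 2, 2, 0, 0, 3, 2, 0, 2, 3, 2, 2, 0, 2, 0, 0, 3, 3, 3, 3, 1, 1, 3, 0, 0]
  | _ => [1, 0, 0, 0, 0, 0, 0, 0, 0, 0, 1, 0, 0, 0, 0, 0, 0, 0, 0, 0, 1, 0, 0, 0, 0, 0, 0, 0, 0, 0, 1, 0, 0, 0, 0, 0, 0, 0, 0, 0, 1, 0, 0, 0, 0, 0, 0, 0, 0, 0, 1, 0, 0, 0, 0, 0, 0, 0, 0, 0, 1, 0, 0, 0, 0, 0, 0, 0, 0, 0, 1, 0, 0, 0, 0, 0, 0, 0, 0, 0, 1]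

/-- the codes of the images of the eighteen basis vectors over the prime field -/
def gB : Gen → List Nat
  | .a => [194937, 220830, 59959, 32537, 80026, 138479, 204657, 75154, 204941, 78022, 90303, 176341, 36718, 50615, 144394, 202767, 116371, 150497]
  | .b => [167701, 247082, 78997, 137450, 244629, 122346, 160124, 234132, 102754, 189107, 156726, 243739, 23976, 42748, 22387, 43409, 69095, 132729]
  | .c => [212028, 70676, 100118, 182571, 210310, 72395, 73520, 140560, 181656, 215788, 209302, 70379, 34914, 52403, 12812, 4868, 68454, 134587]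
  | .d => [235624, 126140, 106359, 189849, 200027, 67245, 167445, 247594, 231896, 118380, 136107, 205309, 148485, 231434, 152527, 237893, 130790, 153467]
  | .e => [250780, 90596, 90594, 176755, 29021, 37542, 13659, 6829, 17750, 35499, 196928, 66176, 65709, 131318, 196886, 66091, 38918, 60427]
  | .f => [17724, 35348, 56754, 26323, 161178, 236271, 174204, 261268, 221461, 111146, 201945, 75886, 55268, 27000, 74201, 143982, 19184, 36688]
  | .g => [206045, 79974, 240118, 130651, 261193, 87182, 240474, 130479, 108932, 196296, 67565, 133494, 230383, 115061, 13292, 4468, 9642, 15103]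
  | _ => [1, 2, 4, 8, 16, 32, 64, 128, 256, 512, 1024, 2048, 4096, 8192, 16384, 32768, 65536, 131072]

/-- the action of a generator on the code of a vector -/
noncomputable def vstep (x : Gen) (c : Nat) : Nat := go c (gB x) 0 0

/-- the images of the basis vectors agree with the matrix -/
noncomputable def tabOK (x : Gen) : Bool :=
  Nat.beq (gB x).length 18 && (List.range 18).all fun j => (List.finRange 9).all fun i =>
    decide (vdec ((gB x).getD j 0) i = (mat (gm x)).mulVec (bvec j) i)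

theorem htab : ∀ x : Gen, tabOK x = true := by
  intro x
  cases x <;> decide +kernel

theorem mulVec_vdec (M : Matrix (Fin 9) (Fin 9) F4) (c : Nat) :
    M.mulVec (vdec c) = ∑ j ∈ Finset.range 18, if c.testBit j then M.mulVec (bvec j) else 0 := by
  unfold vdec
  rw [← Matrix.mulVecLin_apply, map_sum]
  apply Finset.sum_congr rfl
  intro j _
  rw [Matrix.mulVecLin_apply]
  split_ifs
  · rfl
  · exact Matrix.mulVec_zero M

theorem tab_spec (x : Gen) (c : Nat) : vdec (vstep x c) = (mat (gm x)).mulVec (vdec c) := by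
  have h := htab x
  unfold tabOK at h
  rw [Bool.and_eq_true] at h
  have hlen : (gB x).length = 18 := Nat.eq_of_beq_eq_true h.1
  have hb : ∀ j ∈ Finset.range 18, vdec ((gB x).getD j 0) = (mat (gm x)).mulVec (bvec j) := by
    intro j hj
    funext i
    exact of_decide_eq_true (List.all_eq_true.mp (List.all_eq_true.mp h.2 j
      (List.mem_range.mpr (Finset.mem_range.mp hj))) i (List.mem_finRange i))
  unfold vstep
  rw [go_vdec, vdec_zero, zero_add, hlen, mulVec_vdec]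
  apply Finset.sum_congr rfl
  intro j hj
  rw [Nat.zero_add, hb j hj]

/-- the walk of the code of a vector along a word -/
noncomputable def vwalk : Word Gen → Nat → Nat
  | [], c => c
  | l :: L, c => vstep l.1 (vwalk L c)

/-- the product of the matrices of the letters of a word (their signs are ignored: the matrices are
involutions) -/
def evalM : Word Gen → Matrix (Fin 9) (Fin 9) F4
  | [] => 1
  | l :: L => mat (gm l.1) * evalM L

theorem vwalk_spec : ∀ (L : Word Gen) (c : Nat), vdec (vwalk L c) = (evalM L).mulVec (vdec c)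
  | [], c => by rw [evalM, Matrix.one_mulVec]; rfl
  | l :: L, c => by
    show vdec (vstep l.1 (vwalk L c)) = (mat (gm l.1) * evalM L).mulVec (vdec c)
    rw [tab_spec, vwalk_spec L c, Matrix.mulVec_mulVec]

theorem vdec_basis : ∀ t ∈ [1, 2, 3], ∀ j : Fin 9,
    vdec (t * 4 ^ j.val) = f4 t • (Pi.single j 1 : V9) := by decide +kernel

theorem vdec_e : ∀ j : Fin 9, vdec (4 ^ j.val) = (Pi.single j 1 : V9) := by decide +kernel

/-- a word along which the basis vectors are multiplied by a scalar has a scalar matrix -/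
theorem eq_smul_of_walk (L : Word Gen) (t : Nat) (ht : t ∈ [1, 2, 3])
    (h : ∀ j : Fin 9, vwalk L (4 ^ j.val) = t * 4 ^ j.val) :
    evalM L = f4 t • (1 : Matrix (Fin 9) (Fin 9) F4) := by
  ext i j
  have h1 := vwalk_spec L (4 ^ j.val)
  rw [h j, vdec_basis t ht j, vdec_e j, Matrix.mulVec_single_one] at h1
  have h3 := congrFun h1 i
  simp only [Pi.smul_apply, Pi.single_apply, smul_eq_mul, Matrix.col_apply] at h3
  rw [Matrix.smul_apply, Matrix.one_apply, smul_eq_mul]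
  exact h3.symm

/-- the basis vectors are multiplied by the given scalars along the words of a list -/
noncomputable def relsVK (Ls : List (Word Gen × Nat)) : Bool :=
  Ls.all fun p => (List.range 9).all fun j => Nat.beq (vwalk p.1 (4 ^ j)) (p.2 * 4 ^ j)

theorem relsVK_spec {Ls : List (Word Gen × Nat)} (h : relsVK Ls = true)
    (hs : ∀ p ∈ Ls, p.2 ∈ [1, 2, 3]) :
    ∀ p ∈ Ls, evalM p.1 = f4 p.2 • (1 : Matrix (Fin 9) (Fin 9) F4) := by
  intro p hp
  apply eq_smul_of_walk _ _ (hs p hp)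
  intro j
  exact Nat.eq_of_beq_eq_true (List.all_eq_true.mp (List.all_eq_true.mp h p hp) j.val
    (List.mem_range.mpr j.2))

theorem hsqW : ∀ x : Gen, ∀ j : Fin 9, vwalk [(x, true), (x, true)] (4 ^ j.val) = 1 * 4 ^ j.val := by
  intro x
  cases x <;> decide +kernel

theorem hsqM (x : Gen) : mat (gm x) * mat (gm x) = 1 := by
  have h := eq_smul_of_walk [(x, true), (x, true)] 1 (by decide) (hsqW x)
  simp only [evalM, mul_one] at h
  rw [h]
  have h1 : f4 1 = (1 : F4) := by decide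
  rw [h1, one_smul]

theorem hdet (x : Gen) : (mat (gm x)).det = 1 := by
  apply F4_sq_one
  rw [← Matrix.det_mul, hsqM, Matrix.det_one]

/-- the matrices of the generators in the special linear group -/
def sl (x : Gen) : Matrix.SpecialLinearGroup (Fin 9) F4 := ⟨mat (gm x), hdet x⟩

/-- the columns of the matrix of a generator are orthonormal -/
noncomputable def unitOK (x : Gen) : Bool :=
  (List.finRange 9).all fun j => (List.finRange 9).all fun k =>
    decide (∑ i, mat (gm x) i j * mat (gm x) i k ^ 2 = if j = k then 1 else 0)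

theorem hunit : ∀ x : Gen, unitOK x = true := by
  intro x
  cases x <;> decide +kernel

/-- the squaring map -/
def frob : F4 →+ F4 where
  toFun a := a ^ 2
  map_zero' := by decide
  map_add' := by decide

theorem herm_of_unit (M : Matrix (Fin 9) (Fin 9) F4)
    (h : ∀ j k : Fin 9, ∑ i, M i j * M i k ^ 2 = if j = k then 1 else 0) (u v : V9) :
    Cfsg.hermForm 9 F4 2 (M.mulVec u) (M.mulVec v) = Cfsg.hermForm 9 F4 2 u v := by
  have hsq : ∀ i, (M.mulVec v i) ^ 2 = ∑ k, M i k ^ 2 * v k ^ 2 := by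
    intro i
    have e : M.mulVec v i = ∑ k, M i k * v k := rfl
    rw [e]
    have h1 := map_sum frob (fun k => M i k * v k) Finset.univ
    simp only [frob, AddMonoidHom.coe_mk, ZeroHom.coe_mk, mul_pow] at h1
    exact h1
  unfold Cfsg.hermForm
  calc ∑ i, M.mulVec u i * M.mulVec v i ^ 2
      = ∑ i, (∑ j, M i j * u j) * (∑ k, M i k ^ 2 * v k ^ 2) := by
        apply Finset.sum_congr rfl
        intro i _
        rw [hsq]
        rfl
    _ = ∑ i, ∑ j, ∑ k, (u j * v k ^ 2) * (M i j * M i k ^ 2) := by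
        apply Finset.sum_congr rfl
        intro i _
        rw [Finset.sum_mul_sum]
        apply Finset.sum_congr rfl
        intro j _
        apply Finset.sum_congr rfl
        intro k _
        ring
    _ = ∑ j, ∑ k, (u j * v k ^ 2) * ∑ i, M i j * M i k ^ 2 := by
        rw [Finset.sum_comm]
        apply Finset.sum_congr rfl
        intro j _
        rw [Finset.sum_comm]
        apply Finset.sum_congr rfl
        intro k _
        rw [Finset.mul_sum]
    _ = ∑ j, ∑ k, (u j * v k ^ 2) * (if j = k then 1 else 0) := by simp only [h]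
    _ = ∑ j, u j * v j ^ 2 := by simp

theorem hsu (x : Gen) : sl x ∈ Cfsg.SU 9 F4 2 := by
  change ∀ u v : V9, Cfsg.hermForm 9 F4 2 ((mat (gm x)).mulVec u) ((mat (gm x)).mulVec v) =
    Cfsg.hermForm 9 F4 2 u v
  intro u v
  exact herm_of_unit (mat (gm x)) (fun j k => of_decide_eq_true (List.all_eq_true.mp
    (List.all_eq_true.mp (hunit x) j (List.mem_finRange j)) k (List.mem_finRange k))) u v

/-- the unitary matrices of the generators -/
def s (x : Gen) : ↥(Cfsg.SU 9 F4 2) := ⟨sl x, hsu x⟩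

theorem s_sq (x : Gen) : s x * s x = 1 := by
  apply Subtype.ext
  apply Subtype.ext
  exact hsqM x

theorem lift_val : ∀ L : Word Gen, ((FreeGroup.lift s (FreeGroup.mk L)).1).1 = evalM L
  | [] => rfl
  | (x, b) :: L => by
    have h1 : (FreeGroup.mk ((x, b) :: L) : FreeGroup Gen) =
        FreeGroup.mk [(x, b)] * FreeGroup.mk L := rfl
    have h2 : FreeGroup.lift s (FreeGroup.mk [(x, b)]) = s x := by
      rw [FreeGroup.lift_mk]
      cases b
      · simp only [List.map_cons, List.map_nil, List.prod_cons, List.prod_nil, mul_one, cond_false]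
        exact inv_eq_of_mul_eq_one_right (s_sq x)
      · simp
    rw [h1, map_mul, h2]
    show mat (gm x) * ((FreeGroup.lift s (FreeGroup.mk L)).1).1 = mat (gm x) * evalM L
    rw [lift_val L]

/-- a word of the generators with a scalar matrix other than the identity -/
def zW : Word Gen := [(Gen.g, true), (Gen.e, true), (Gen.b, true), (Gen.c, true), (Gen.a, true), (Gen.f, true), (Gen.a, true), (Gen.f, true), (Gen.e, true), (Gen.g, true), (Gen.d, true), (Gen.b, true)]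

/-- the scalars of the relators -/
def SC : List Nat := [1, 1, 1, 1, 1, 1, 1, 1, 1, 1, 1, 1, 1, 1, 1, 1, 1, 1, 1, 1, 1, 1, 1, 1, 1, 1, 1, 1, 1, 1, 1, 1, 1, 1, 1, 1, 1, 1, 1, 1, 1, 1, 1, 1, 1, 1, 1, 1, 1, 1, 1, 1, 1, 1, 1, 1, 1, 2, 1, 1, 1, 1, 1, 1, 1, 1, 1, 1, 2, 1, 2, 2, 1, 1, 2, 2, 2, 2, 1, 1, 3, 2, 1, 3, 1, 1, 3, 1, 1, 3, 2, 3, 3, 1, 1, 1, 2, 1, 2, 1, 2, 1, 1, 1, 1, 1, 3, 1, 3, 2, 2, 2, 1, 1, 2, 2, 2, 2, 1, 1, 3, 1, 1, 1, 1, 3, 1, 1, 1, 1, 3, 1, 3, 1, 2, 1, 1, 1, 3, 2, 2, 3, 2, 2, 3, 1, 3, 2, 1, 1, 1, 3, 2, 1, 1, 1, 1]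

/-- the scalar element -/
noncomputable def z : ↥(Cfsg.SU 9 F4 2) := FreeGroup.lift s (FreeGroup.mk zW)

theorem hzW : ∀ j : Fin 9, vwalk zW (4 ^ j.val) = 2 * 4 ^ j.val := by decide +kernel

theorem z_val : (z.1).1 = f4 2 • (1 : Matrix (Fin 9) (Fin 9) F4) := by
  rw [z, lift_val]
  exact eq_smul_of_walk zW 2 (by decide) hzW

theorem z_central (g : ↥(Cfsg.SU 9 F4 2)) : g * z = z * g := by
  apply Subtype.ext
  apply Subtype.ext
  show (g.1).1 * (z.1).1 = (z.1).1 * (g.1).1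
  rw [z_val, Matrix.mul_smul, Matrix.smul_mul, mul_one, one_mul]

theorem z_mul3 : z * z * z = 1 := by
  apply Subtype.ext
  apply Subtype.ext
  show (z.1).1 * (z.1).1 * (z.1).1 = 1
  rw [z_val]
  simp only [Matrix.smul_mul, Matrix.mul_smul, one_mul, smul_smul]
  have h : f4 2 * (f4 2 * f4 2) = (1 : F4) := by decide
  rw [h, one_smul]

theorem z_ne_one : z ≠ 1 := by
  intro h
  have h1 : (z.1).1 = 1 := congrArg (fun g : ↥(Cfsg.SU 9 F4 2) => (g.1).1) h
  rw [z_val] at h1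
  have h2 := congrFun (congrFun h1 0) 0
  rw [Matrix.smul_apply, Matrix.one_apply_eq, smul_eq_mul, mul_one] at h2
  revert h2
  decide

theorem z_order : orderOf z = 3 := by
  haveI : Fact (Nat.Prime 3) := ⟨by norm_num⟩
  apply orderOf_eq_prime _ z_ne_one
  rw [pow_succ, pow_two]
  exact z_mul3

/-- an element with a scalar matrix is a power of the scalar element -/
theorem mem_zpowers_of_scalar (g : ↥(Cfsg.SU 9 F4 2)) (t : Nat) (ht : t ∈ [1, 2, 3])
    (hg : (g.1).1 = f4 t • (1 : Matrix (Fin 9) (Fin 9) F4)) : g ∈ Subgroup.zpowers z := by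
  simp only [List.mem_cons, List.mem_nil_iff, or_false] at ht
  rcases ht with rfl | rfl | rfl
  · have h : g = 1 := by
      apply Subtype.ext
      apply Subtype.ext
      rw [hg]
      have h1 : f4 1 = (1 : F4) := by decide
      rw [h1, one_smul]
      rfl
    rw [h]
    exact Subgroup.one_mem _
  · have h : g = z := by
      apply Subtype.ext
      apply Subtype.ext
      rw [hg, z_val]
    rw [h]
    exact Subgroup.mem_zpowers z
  · have h : g = z * z := by
      apply Subtype.ext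
      apply Subtype.ext
      show (g.1).1 = (z.1).1 * (z.1).1
      rw [hg, z_val, Matrix.smul_mul, Matrix.mul_smul, one_mul, smul_smul]
      have h1 : f4 2 * f4 2 = f4 3 := by decide
      rw [h1]
    rw [h]
    exact Subgroup.mul_mem _ (Subgroup.mem_zpowers z) (Subgroup.mem_zpowers z)

theorem s_not_mem : s Gen.a ∉ Subgroup.zpowers z := by
  intro h
  obtain ⟨k, hk⟩ := Subgroup.mem_zpowers_iff.mp h
  have hz3 : z ^ 3 = 1 := by
    rw [pow_succ, pow_two]
    exact z_mul3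
  have h3 : s Gen.a ^ 3 = 1 := by
    rw [← hk, ← zpow_natCast, ← zpow_mul, mul_comm, zpow_mul, zpow_natCast, hz3, one_zpow]
  have h1 : s Gen.a = 1 := by
    have h2 := s_sq Gen.a
    calc s Gen.a = s Gen.a ^ 3 * (s Gen.a * s Gen.a)⁻¹ := by group
      _ = 1 := by rw [h3, h2, inv_one, mul_one]
  have h4 : mat (gm Gen.a) = 1 := congrArg (fun g : ↥(Cfsg.SU 9 F4 2) => (g.1).1) h1
  have h5 := congrFun (congrFun h4 0) 1
  revert h5
  decide +kernel

end Cfsg.Agent.Lib.helper9.J3M
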